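import Cfsg.Agent.Zel.Grp.Core
import Cfsg.Agent.Zel.PI.Main
import Mathlib
set_option linter.all false

-- part: Zel/Grp/Bound
section
/-!
# The bound for the order of a generator of a `p`-group with a `C_q × C_q` action
-/

set_option autoImplicit false

universe u

namespace Cfsg.Agent.Zel.Grp

open Cfsg.Agent.Zel

section Abs

variable {F R H : Type*} [Field F] [Ring R] [Algebra F R] [Group H] {ρ : H →* R}
  (hs : Submodule.span F (Set.range ρ) = ⊤) {q : ℕ} (χ : AddChar (ZMod q) F)
  (φ : MulAut H → R →ₐ[F] R) (hφ : ∀ γ h, φ γ (ρ h) = ρ (γ h))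
  {p k : ℕ} [Fact p.Prime] [Fact q.Prime] [Finite H] (hH : IsPGroup p H) (hpq : q ≠ p)
  [CharP F p] [CharP R p]

omit [Fact q.Prime] [Finite H] [CharP F p] in
theorem grFam_fix (γ : MulAut H) (hγ : ∀ g, γ g = g → g ^ p ^ k = 1) :
    GrFam q (p ^ k) (fun (_ : ZMod q) (b : Gr (isFilt_augF hs)) =>
      ∃ i, 1 ≤ i ∧ ∃ g ∈ dimSub hs i, γ g = g ∧ b = xi hs i g) where
  lie := by
    rintro _ _ _ _ ⟨i, hi, g, hg, hg', rfl⟩ ⟨j, hj, h, hh, hh', rfl⟩
    refine ⟨i + j, by omega, _, comm_mem_dimSub hs hg hh, ?_, xi_comm hs hg hh⟩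
    simp only [map_mul, map_inv, hg', hh']
  nil := by
    rintro _ _ ⟨i, -, g, hg, hg', rfl⟩
    exact xi_pow_eq_zero hs hg (hγ g hg')
  sym := by
    intro y hy
    choose w hw g hg hg' hy using hy
    rw [funext hy]
    exact symProd_xi_eq_zero hs (fixSub γ) (fun g hg => hγ g hg) w hw g hg hg' _ (by simp)

include hH hpq in
theorem fix_nil {N : ℕ}
    (hN : ∀ G : ZMod q → Gr (isFilt_augF hs) → Prop, GrFam q (p ^ k) G →
      ∀ x : ZMod q → Gr (isFilt_augF hs), (∀ a, G 0 (x a)) →
      ∀ w : List (ZMod q), N ≤ w.length → (w.map x).prod = 0)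
    {γ : MulAut H} (hγq : γ ^ q = 1) (hγ : ∀ g, γ g = g → g ^ p ^ k = 1) {i : ℕ} (hi : 1 ≤ i)
    {b : Gr (isFilt_augF hs)} (hb : b ∈ symGr hs χ i ⊤) (hfix : autGr hs φ hφ γ b = b) :
    b ^ N = 0 := by
  obtain ⟨g, hg, rfl⟩ := symGr_normal hs χ hi (symGr_fix hs χ φ hφ hH hpq hγq hi hb hfix)
  have h1 := span_pow_eq_bot (F := F) (fun l => xi hs i (g l))
    (hN _ (grFam_fix hs γ hγ) (fun l => xi hs i (g l))
      (fun l => by exact ⟨i, hi, g l, (hg l).1, (hg l).2, rfl⟩))
  rw [← Submodule.mem_bot F, ← h1]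
  exact Submodule.pow_mem_pow _ (Submodule.sum_mem _ (fun l _ =>
    Submodule.smul_mem _ _ (Submodule.subset_span (Set.mem_range_self l)))) N

variable (θ : ZMod q × ZMod q → MulAut H) (hθ : ∀ s t, θ (s + t) = θ s * θ t)

omit [Finite H] in
include hθ in
theorem theta_zero : θ 0 = 1 := by
  have := hθ 0 0
  rw [add_zero] at this
  exact (mul_eq_left.1 this.symm)

omit [Finite H] in
include hθ in
theorem theta_pow (s : ZMod q × ZMod q) : θ s ^ q = 1 := by
  have h1 : ∀ n : ℕ, θ s ^ n = θ (n • s) := by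
    intro n
    induction n with
    | zero => rw [pow_zero, zero_smul, theta_zero θ hθ]
    | succ n ih => rw [pow_succ, ih, succ_nsmul, hθ]
  rw [h1, ← theta_zero θ hθ]
  congr 1
  ext <;> simp

/-- the family of the common eigenvectors -/
def eigFam (d : ZMod q) (b : Gr (isFilt_augF hs)) : Prop :=
  ∃ i, 1 ≤ i ∧ ∃ c : ZMod q × ZMod q, c.1 = d ∧ b ∈ symGr hs χ i ⊤ ∧
    ∀ s, autGr hs φ hφ (θ s) b = χ (s.1 * c.1 + s.2 * c.2) • b

include hH hpq hθ in
theorem grFam_eig {N : ℕ}
    (hN : ∀ G : ZMod q → Gr (isFilt_augF hs) → Prop, GrFam q (p ^ k) G →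
      ∀ x : ZMod q → Gr (isFilt_augF hs), (∀ a, G 0 (x a)) →
      ∀ w : List (ZMod q), N ≤ w.length → (w.map x).prod = 0)
    (hfix : ∀ s, s ≠ 0 → ∀ g, θ s g = g → g ^ p ^ k = 1) :
    GrFam q (max (p ^ k) N) (eigFam hs χ φ hφ θ) where
  lie := by
    rintro _ _ a b ⟨i, hi, c, rfl, ha, ha'⟩ ⟨j, hj, e, rfl, hb, hb'⟩
    refine ⟨i + j, by omega, c + e, rfl, symGr_lie hs χ ha hb, fun s => ?_⟩
    rw [map_sub, map_mul, map_mul, ha', hb', smul_mul_smul_comm, smul_mul_smul_comm,
      mul_comm (χ (s.1 * e.1 + s.2 * e.2)), ← smul_sub, ← AddChar.map_add_eq_mul]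
    congr 2
    simp only [Prod.fst_add, Prod.snd_add]
    ring
  nil := by
    rintro _ b ⟨i, hi, c, -, hb, hb'⟩
    obtain ⟨s, hs0, hs1⟩ : ∃ s : ZMod q × ZMod q, s ≠ 0 ∧ s.1 * c.1 + s.2 * c.2 = 0 := by
      by_cases hc : c.1 = 0
      · exact ⟨(1, 0), by simp, by simp [hc]⟩
      · exact ⟨(c.2, -c.1), by simp [hc], by ring⟩
    have h1 := fix_nil hs χ φ hφ hH hpq hN (theta_pow θ hθ s) (hfix s hs0) hi hb (by
      rw [hb', hs1, AddChar.map_zero_eq_one, one_smul])
    exact pow_eq_zero_of_le (le_max_right _ _) h1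
  sym := by
    intro y hy
    let γ := θ (1, 0)
    have hγ : ∀ g, γ g = g → g ^ p ^ k = 1 := hfix _ (by simp)
    refine symProd_span_eq_zero (F := F)
      (X := {b | ∃ i, 1 ≤ i ∧ ∃ g ∈ dimSub hs i, γ g = g ∧ b = xi hs i g}) (by simp) ?_ 0
      ⟨1, le_rfl, 1, one_mem _, map_one _, (xi_one hs 1).symm⟩ y ?_
    · intro z hz
      choose w hw g hg hg' hz using hz
      rw [funext hz]
      refine symProd_eq_zero_of_le (U := Finset.univ) (n := p ^ k) (fun T _ hT => ?_)
        (le_max_left _ _) le_rfl (by simp)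
      exact symProd_xi_eq_zero hs (fixSub γ) (fun g hg => hγ g hg) w hw g hg hg' T hT
    · intro j _
      obtain ⟨i, hi, c, hc, hb, hb'⟩ := hy j
      obtain ⟨g, hg, h1⟩ := symGr_normal hs χ hi (symGr_fix hs χ φ hφ hH hpq
        (theta_pow θ hθ (1, 0)) hi hb (by rw [hb', hc]; simp))
      rw [h1]
      exact Submodule.sum_mem _ (fun l _ => Submodule.smul_mem _ _
        (Submodule.subset_span ⟨i, hi, g l, (hg l).1, (hg l).2, rfl⟩))

/-- the eigencomponents of the symbol of `x` -/
noncomputable def eigGen (x : H) (c : ZMod q × ZMod q) : Gr (isFilt_augF hs) :=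
  ∑ s : ZMod q × ZMod q, χ (-(s.1 * c.1 + s.2 * c.2)) • xi hs 1 (θ s x)

omit [Finite H] in
include hθ in
theorem eigGen_mem (x : H) (c : ZMod q × ZMod q) :
    eigFam hs χ φ hφ θ c.1 (eigGen hs χ θ x c) := by
  refine ⟨1, le_rfl, c, rfl, AddSubgroup.sum_mem _
    (fun s _ => mem_symGr hs χ _ (mem_dimSub_one hs _) trivial), fun t => ?_⟩
  unfold eigGen
  rw [map_sum, Finset.smul_sum]
  refine Fintype.sum_equiv (Equiv.addLeft t) _ _ (fun s => ?_)
  rw [map_smul, autGr_xi hs φ hφ _ (mem_dimSub_one hs _), Equiv.coe_addLeft, hθ, smul_smul,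
    ← AddChar.map_add_eq_mul]
  congr 2
  simp only [Prod.fst_add, Prod.snd_add]
  ring

omit [Finite H] in
include hθ in
theorem sum_eigGen (hχ : χ.IsPrimitive) (x : H) :
    ∑ c, eigGen hs χ θ x c = ((q : F) * q) • xi hs 1 x := by
  unfold eigGen
  rw [Finset.sum_comm]
  have h1 : ∀ s : ZMod q × ZMod q, ∑ c : ZMod q × ZMod q, χ (-(s.1 * c.1 + s.2 * c.2)) =
      if s = 0 then (q : F) * q else 0 := by
    intro s
    have h2 : ∀ c : ZMod q × ZMod q, χ (-(s.1 * c.1 + s.2 * c.2)) =
        χ (c.1 * (-s.1)) * χ (c.2 * (-s.2)) := by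
      intro c
      rw [← AddChar.map_add_eq_mul]
      congr 1
      ring
    simp only [h2]
    rw [Fintype.sum_prod_type]
    dsimp only
    rw [← Finset.sum_mul_sum, AddChar.sum_mulShift _ hχ, AddChar.sum_mulShift _ hχ]
    obtain ⟨a, b⟩ := s
    by_cases ha : a = 0 <;> by_cases hb : b = 0 <;> simp [ha, hb]
  simp only [← Finset.sum_smul, h1]
  rw [Finset.sum_eq_single 0]
  · rw [if_pos rfl, theta_zero θ hθ]; rfl
  · intro s _ hs0; rw [if_neg hs0, zero_smul]
  · simp

omit [Finite H] [CharP R p] in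
include hθ hpq hφ in
theorem xi_mem_span (hχ : χ.IsPrimitive) (x : H)
    (hx : Subgroup.closure (Set.range (fun s => θ s x)) = ⊤) (h : H) :
    xi hs 1 h ∈ Submodule.span F (Set.range (eigGen hs χ θ x)) := by
  set V := Submodule.span F (Set.range (eigGen hs χ θ x))
  have hq : (q : F) ≠ 0 := by
    rw [Ne, CharP.cast_eq_zero_iff F p]
    intro h
    exact hpq ((Nat.prime_dvd_prime_iff_eq Fact.out Fact.out).1 h).symm
  have h1 : xi hs 1 x ∈ V := by
    rw [← Submodule.smul_mem_iff _ (mul_ne_zero hq hq), ← sum_eigGen hs χ θ hθ hχ]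
    exact Submodule.sum_mem _ (fun c _ => Submodule.subset_span ⟨c, rfl⟩)
  have h2 : ∀ t, ∀ v ∈ V, autGr hs φ hφ (θ t) v ∈ V := by
    intro t v hv
    induction hv using Submodule.span_induction with
    | mem v hv =>
      obtain ⟨c, rfl⟩ := hv
      obtain ⟨_, _, e, _, _, h3⟩ := eigGen_mem hs χ φ hφ θ hθ x c
      rw [h3]
      exact Submodule.smul_mem _ _ (Submodule.subset_span ⟨c, rfl⟩)
    | zero => rw [map_zero]; exact zero_mem _
    | add a b _ _ ha hb => rw [map_add]; exact add_mem ha hb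
    | smul c a _ ha => rw [map_smul]; exact Submodule.smul_mem _ _ ha
  have h3 : h ∈ Subgroup.closure (Set.range (fun s => θ s x)) := hx ▸ trivial
  induction h3 using Subgroup.closure_induction with
  | mem g hg =>
    obtain ⟨t, rfl⟩ := hg
    have := h2 t _ h1
    rwa [autGr_xi hs φ hφ _ (mem_dimSub_one hs _)] at this
  | one => rw [xi_one]; exact zero_mem _
  | mul a b _ _ ha hb =>
    rw [xi_mul hs le_rfl (mem_dimSub_one hs _) (mem_dimSub_one hs _)]; exact add_mem ha hb
  | inv a _ ha => rw [xi_inv hs le_rfl (mem_dimSub_one hs _)]; exact neg_mem ha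

omit [Finite H] in
theorem sb_mem_pow (V : Submodule F (Gr (isFilt_augF hs))) (hV : ∀ h, xi hs 1 h ∈ V) (m : ℕ) :
    ∀ r ∈ augF F ρ m, sb (isFilt_augF hs) m r ∈ V ^ m := by
  have hJ : ∀ a ∈ augJ F ρ, a ∈ augF F ρ 1 ∧ sb (isFilt_augF hs) 1 a ∈ V := by
    intro a ha
    induction ha using Submodule.span_induction with
    | mem a ha =>
      obtain ⟨h, rfl⟩ := ha
      exact ⟨sub_one_mem_augF h, hV h⟩
    | zero => exact ⟨zero_mem _, by rw [sb_zero]; exact zero_mem _⟩
    | add a b _ _ ha hb =>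
      exact ⟨add_mem ha.1 hb.1, by rw [sb_add _ ha.1 hb.1]; exact add_mem ha.2 hb.2⟩
    | smul c a _ ha =>
      exact ⟨Submodule.smul_mem _ _ ha.1, by
        rw [sb_smul _ c ha.1]; exact Submodule.smul_mem _ _ ha.2⟩
  induction m with
  | zero =>
    intro r _
    have hr : r ∈ Submodule.span F (Set.range ρ) := hs ▸ trivial
    rw [pow_zero]
    induction hr using Submodule.span_induction with
    | mem a ha =>
      obtain ⟨h, rfl⟩ := ha
      rw [sb_congr (isFilt_augF hs) (i := 0) (b := 1) trivial trivial (sub_one_mem_augF h), sb_one]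
      exact Submodule.one_le.1 le_rfl
    | zero => rw [sb_zero]; exact zero_mem _
    | add a b _ _ ha hb =>
      rw [sb_add (isFilt_augF hs) (i := 0) trivial trivial]
      exact add_mem (ha trivial) (hb trivial)
    | smul c a _ ha =>
      rw [sb_smul (isFilt_augF hs) (i := 0) c trivial]
      exact Submodule.smul_mem _ _ (ha trivial)
  | succ m ih =>
    intro r hr
    have key : r ∈ augF F ρ (m + 1) ∧ sb (isFilt_augF hs) (m + 1) r ∈ V ^ (m + 1) := by
      refine Submodule.mul_induction_on (C := fun r => r ∈ augF F ρ (m + 1) ∧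
        sb (isFilt_augF hs) (m + 1) r ∈ V ^ (m + 1)) hr ?_ ?_
      · intro a ha b hb
        refine ⟨Submodule.mul_mem_mul ha hb, ?_⟩
        rw [add_comm m 1, ← sb_mul _ (hJ a ha).1 hb, pow_add, pow_one]
        exact Submodule.mul_mem_mul (hJ a ha).2 (ih b hb)
      · intro a b ha hb
        exact ⟨add_mem ha.1 hb.1, by rw [sb_add _ ha.1 hb.1]; exact add_mem ha.2 hb.2⟩
    exact key.2

include hH hpq hθ hφ in
theorem abs_bound (hχ : χ.IsPrimitive) {N M : ℕ}
    (hN : ∀ G : ZMod q → Gr (isFilt_augF hs) → Prop, GrFam q (p ^ k) G →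
      ∀ x : ZMod q → Gr (isFilt_augF hs), (∀ a, G 0 (x a)) →
      ∀ w : List (ZMod q), N ≤ w.length → (w.map x).prod = 0)
    (hM : ∀ G : ZMod q → Gr (isFilt_augF hs) → Prop, GrFam q (max (p ^ k) N) G →
      ∀ x : ZMod q × ZMod q → Gr (isFilt_augF hs), (∀ a, G a.1 (x a)) →
      ∀ w : List (ZMod q × ZMod q), M ≤ w.length → (w.map x).prod = 0)
    (hfix : ∀ s, s ≠ 0 → ∀ g, θ s g = g → g ^ p ^ k = 1) (x : H)
    (hx : Subgroup.closure (Set.range (fun s => θ s x)) = ⊤) : (ρ x - 1) ^ M = 0 := by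
  have h1 := span_pow_eq_bot (F := F) (eigGen hs χ θ x)
    (hM _ (grFam_eig hs χ φ hφ hH hpq θ hθ hN hfix) _ (eigGen_mem hs χ φ hφ θ hθ x))
  have h2 : augF F ρ M = ⊥ := by
    refine augF_eq_bot hH hs (fun r hr => ?_)
    have := sb_mem_pow hs _ (xi_mem_span hs χ φ hφ hpq θ hθ hχ x hx) M r hr
    rw [h1, Submodule.mem_bot] at this
    exact (sb_eq_zero_iff _ hr).1 this
  have := (isFilt_augF hs).pow (sub_one_mem_augF (F := F) (ρ := ρ) x) M
  rwa [one_mul, h2, Submodule.mem_bot] at this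

end Abs

theorem span_of_eq_top (F H : Type*) [Field F] [Group H] :
    Submodule.span F (Set.range (MonoidAlgebra.of F H)) = ⊤ := by
  rw [eq_top_iff]
  intro r _
  induction r using MonoidAlgebra.induction_on with
  | of h => exact Submodule.subset_span ⟨h, rfl⟩
  | add a b ha hb => exact add_mem (ha trivial) (hb trivial)
  | smul c a ha => exact Submodule.smul_mem _ _ (ha trivial)

theorem exists_prim_char (p q : ℕ) [Fact p.Prime] [Fact q.Prime] (hpq : q ≠ p) :
    ∃ χ : AddChar (ZMod q) (AlgebraicClosure (ZMod p)), χ.IsPrimitive := by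
  let F := AlgebraicClosure (ZMod p)
  have hq : (q : F) ≠ 0 := by
    rw [Ne, CharP.cast_eq_zero_iff F p]
    intro h
    exact hpq ((Nat.prime_dvd_prime_iff_eq Fact.out Fact.out).1 h).symm
  have : NeZero (q : F) := ⟨hq⟩
  obtain ⟨ω, hω⟩ := HasEnoughRootsOfUnity.exists_primitiveRoot F q
  exact ⟨_, AddChar.zmodChar_primitive_of_primitive_root q hω⟩

theorem core_bound (hL : AssocThmAll.{u}) (p q k : ℕ) [Fact p.Prime] [Fact q.Prime] (hpq : q ≠ p) :
    ∃ N, ∀ (H : Type u) [Group H] [Finite H], IsPGroup p H →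
      ∀ θ : ZMod q × ZMod q → MulAut H, (∀ s t, θ (s + t) = θ s * θ t) →
      (∀ s, s ≠ 0 → ∀ g, θ s g = g → g ^ p ^ k = 1) →
      ∀ x, Subgroup.closure (Set.range (fun s => θ s x)) = ⊤ → x ^ p ^ N = 1 := by
  let F := AlgebraicClosure (ZMod p)
  obtain ⟨χ, hχ⟩ := exists_prim_char p q hpq
  obtain ⟨N, hN⟩ := assoc_bound (hL p q (p ^ k) Fact.out hpq) (ZMod q) (fun _ => 0)
  obtain ⟨M, hM⟩ := assoc_bound (hL p q (max (p ^ k) N) Fact.out hpq) (ZMod q × ZMod q)
    Prod.fst
  refine ⟨M, fun H _ _ hH θ hθ hfix x hx => ?_⟩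
  have : CharP (MonoidAlgebra F H) p :=
    charP_of_injective_algebraMap (algebraMap F (MonoidAlgebra F H)).injective p
  have h3 := abs_bound (span_of_eq_top F H) χ
    (fun γ => MonoidAlgebra.mapDomainAlgHom F F γ.toMonoidHom)
    (fun γ h => by simp) hH hpq θ hθ hχ (hN _) (hM _) hfix x hx
  have h4 : (MonoidAlgebra.of F H x - 1) ^ p ^ M = 0 :=
    pow_eq_zero_of_le (Nat.lt_pow_self (Fact.out : p.Prime).one_lt).le h3
  rw [sub_pow_char_pow_of_commute _ _ (Commute.one_right _), one_pow, sub_eq_zero,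
    ← map_pow, ← map_one (MonoidAlgebra.of F H)] at h4
  exact MonoidAlgebra.of_injective h4

theorem core_triv (p q : ℕ) [Fact p.Prime] [Fact q.Prime] (hpq : q ≠ p)
    (H : Type*) [Group H] [Finite H] (hH : IsPGroup p H)
    (θ : ZMod q × ZMod q → MulAut H) (hθ : ∀ s t, θ (s + t) = θ s * θ t)
    (hfix : ∀ s, s ≠ 0 → ∀ g, θ s g = g → g = 1)
    (x : H) (hx : Subgroup.closure (Set.range (fun s => θ s x)) = ⊤) : x = 1 := by
  let F := AlgebraicClosure (ZMod p)
  obtain ⟨χ, hχ⟩ := exists_prim_char p q hpq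
  have : CharP (MonoidAlgebra F H) p :=
    charP_of_injective_algebraMap (algebraMap F (MonoidAlgebra F H)).injective p
  have key : ∀ {S α : Type _} [Ring S] {G : ZMod q → S → Prop} (deg : α → ZMod q),
      GrFam q 1 G → ∀ x : α → S, (∀ a, G (deg a) (x a)) →
      ∀ w : List α, 1 ≤ w.length → (w.map x).prod = 0 := by
    intro S α _ G deg hG x hx w hw
    cases w with
    | nil => simp at hw
    | cons a w =>
      have := hG.nil _ _ (hx a)
      rw [pow_one] at this
      simp [this]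
  have h3 := abs_bound (k := 0) (N := 1) (M := 1) (span_of_eq_top F H) χ
    (fun γ => MonoidAlgebra.mapDomainAlgHom F F γ.toMonoidHom)
    (fun γ h => by simp) hH hpq θ hθ hχ
    (fun G hG => key (fun _ => 0) (by simpa using hG))
    (fun G hG => key Prod.fst (by simpa using hG)) (by simpa using hfix) x hx
  rw [pow_one, sub_eq_zero, ← map_one (MonoidAlgebra.of F H)] at h3
  exact MonoidAlgebra.of_injective h3

end Cfsg.Agent.Zel.Grp
end

-- part: Zel/Grp/Red
section
/-!
# Fixed points of `C_q × C_q` in the derived subgroup of a `p`-group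
-/

set_option autoImplicit false

namespace Cfsg.Agent.Zel.Grp

open scoped commutatorElement IsMulCommutative

section Avg

variable {H : Type*} [Group H] [Finite H] {q : ℕ} [Fact q.Prime]
  {B : Type*} [AddCommGroup B] [Fintype B] (hB : ∀ b : B, q • b = 0)
  (θ : B → MulAut H) (hθ : ∀ s t, θ (s + t) = θ s * θ t)

omit [Finite H] [Fintype B] in
include hθ in
theorem fam_zero : θ 0 = 1 := by
  have := hθ 0 0
  rw [add_zero] at this
  exact (mul_eq_left.1 this.symm)

omit [Finite H] [Fintype B] in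
include hθ in
theorem fam_apply (s t : B) (g : H) : θ s (θ t g) = θ (s + t) g := by rw [hθ]; rfl

omit [Finite H] [Fintype B] in
include hB hθ in
theorem exists_fixed_in_coset_fam (N : Subgroup H) (hN : ∀ t, ∀ x ∈ N, θ t x ∈ N)
    (hq : ¬ q ∣ Nat.card N) (g : H) (hg : ∀ t, g⁻¹ * θ t g ∈ N) :
    ∃ n ∈ N, ∀ t, θ t (g * n) = g * n := by
  have hX : ∀ t, ∀ x : H, g⁻¹ * x ∈ N → g⁻¹ * θ t x ∈ N := by
    intro t x hx
    have : g⁻¹ * θ t x = g⁻¹ * θ t g * θ t (g⁻¹ * x) := by simp [mul_assoc]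
    rw [this]
    exact mul_mem (hg t) (hN _ _ hx)
  let _ : MulAction (Multiplicative B) {x : H // g⁻¹ * x ∈ N} :=
    { smul := fun t x => ⟨θ t.toAdd x, hX _ _ x.2⟩
      one_smul := fun x => Subtype.ext (by
        change θ 0 x = x
        rw [fam_zero θ hθ]; rfl)
      mul_smul := fun s t x => Subtype.ext (fam_apply θ hθ s.toAdd t.toAdd x).symm }
  let e : {x : H // g⁻¹ * x ∈ N} ≃ N :=
    { toFun := fun x => ⟨g⁻¹ * x, x.2⟩
      invFun := fun n => ⟨g * n, by simp⟩
      left_inv := fun x => by simp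
      right_inv := fun n => by simp }
  have hP : IsPGroup q (Multiplicative B) := fun b => ⟨1, by
    rw [pow_one]; exact congrArg Multiplicative.ofAdd (hB b.toAdd)⟩
  obtain ⟨a, ha⟩ := hP.nonempty_fixed_point_of_prime_not_dvd_card {x : H // g⁻¹ * x ∈ N}
    (by rw [Nat.card_congr e]; exact hq)
  refine ⟨g⁻¹ * a, a.2, fun t => ?_⟩
  rw [mul_inv_cancel_left]
  exact congrArg Subtype.val (ha (Multiplicative.ofAdd t))

include hB hθ in
/-- averaging: a fixed element with the prescribed image in a commutative group -/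
theorem avg_lift {M : Type*} [CommGroup M] (Y : Subgroup H) (hq : ¬ q ∣ Nat.card H) (Φ : H → M)
    (hΦ : ∀ a ∈ Y, ∀ b ∈ Y, Φ (a * b) = Φ a * Φ b) (hY : ∀ t, ∀ y ∈ Y, θ t y ∈ Y)
    (hk : ∀ t, ∀ y ∈ Y, Φ y = 1 → Φ (θ t y) = 1) {u : H} (hu : u ∈ Y) :
    ∃ u' ∈ Y, (∀ t, θ t u' = u') ∧ Φ u' = ∏ t, Φ (θ t u) := by
  classical
  have h1 : Φ 1 = 1 := by
    have := hΦ 1 (one_mem _) 1 (one_mem _)
    rw [one_mul] at this
    exact (mul_eq_left.1 this.symm)
  have hinv : ∀ a ∈ Y, Φ a⁻¹ = (Φ a)⁻¹ := fun a ha => by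
    rw [eq_inv_iff_mul_eq_one, ← hΦ _ (inv_mem ha) _ ha, inv_mul_cancel, h1]
  have h2 : ∀ S : Finset B, ∃ U ∈ Y, ∀ s, Φ (θ s U) = ∏ t ∈ S, Φ (θ (s + t) u) := by
    intro S
    induction S using Finset.induction_on with
    | empty => exact ⟨1, one_mem _, fun s => by simp [h1]⟩
    | insert t S ht ih =>
      obtain ⟨U, hU, h3⟩ := ih
      refine ⟨θ t u * U, mul_mem (hY _ _ hu) hU, fun s => ?_⟩
      rw [Finset.prod_insert ht, map_mul, hΦ _ (hY _ _ (hY _ _ hu)) _ (hY _ _ hU), h3,
        fam_apply θ hθ]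
  obtain ⟨U, hU, h3⟩ := h2 Finset.univ
  have h4 : ∀ s, Φ (θ s U) = ∏ t, Φ (θ t u) := fun s => by
    rw [h3]
    exact Fintype.prod_equiv (Equiv.addLeft s) _ _ (fun t => rfl)
  have h5 : Φ U = ∏ t, Φ (θ t u) := by
    have := h4 0
    rwa [fam_zero θ hθ] at this
  let N : Subgroup H :=
    { carrier := {y | y ∈ Y ∧ Φ y = 1}
      mul_mem' := fun {a b} ha hb => ⟨mul_mem ha.1 hb.1, by rw [hΦ _ ha.1 _ hb.1, ha.2, hb.2, one_mul]⟩
      one_mem' := ⟨one_mem _, h1⟩
      inv_mem' := fun {a} ha => ⟨inv_mem ha.1, by rw [hinv _ ha.1, ha.2, inv_one]⟩ }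
  obtain ⟨n, hn, h6⟩ := exists_fixed_in_coset_fam hB θ hθ N
    (fun t x hx => ⟨hY _ _ hx.1, hk _ _ hx.1 hx.2⟩)
    (fun h => hq (h.trans (Subgroup.card_subgroup_dvd_card N))) U
    (fun t => ⟨mul_mem (inv_mem hU) (hY _ _ hU), by
      rw [hΦ _ (inv_mem hU) _ (hY _ _ hU), hinv _ hU, h4, h5, inv_mul_cancel]⟩)
  exact ⟨U * n, mul_mem hU hn.1, h6, by rw [hΦ _ hU _ hn.1, hn.2, mul_one, h5]⟩

end Avg

theorem mem_of_pow_mem_coprime {M : Type*} [Group M] {p q : ℕ} [Fact p.Prime] [Fact q.Prime]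
    (hpq : q ≠ p) (V : Subgroup M) {c : M} {k : ℕ} (hc : c ^ p ^ k = 1) (h : c ^ q ∈ V) :
    c ∈ V := by
  have hcop : Nat.Coprime q (p ^ k) :=
    ((Nat.coprime_primes Fact.out Fact.out).2 hpq).pow_right k
  have h1 : Nat.Coprime (orderOf c) q :=
    (Nat.Coprime.coprime_dvd_right (orderOf_dvd_of_pow_eq_one hc) hcop).symm
  obtain ⟨m, hm⟩ := exists_pow_eq_self_of_coprime h1.symm
  rw [← hm]
  exact pow_mem h m

theorem prod_lines {M : Type*} [CommGroup M] {q : ℕ} [Fact q.Prime] (f : ZMod q × ZMod q → M) :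
    (∏ t : ZMod q, ∏ i : ZMod q, f (i • (1, t))) * ∏ i : ZMod q, f (i • (0, 1)) =
      f 0 ^ q * ∏ j : ZMod q, ∏ i : ZMod q, f (i • (1, 0) + (0, j)) := by
  classical
  simp only [Prod.smul_mk, smul_eq_mul, mul_one, mul_zero, Prod.mk_add_mk, add_zero, zero_add]
  rw [Finset.prod_comm, Finset.prod_comm (f := fun j i => f (i, j)),
    ← Finset.mul_prod_erase _ _ (Finset.mem_univ (0 : ZMod q)),
    ← Finset.mul_prod_erase _ (fun i => ∏ j, f (i, j)) (Finset.mem_univ (0 : ZMod q))]
  have h1 : ∏ i ∈ Finset.univ.erase (0 : ZMod q), ∏ t : ZMod q, f (i, i * t) =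
      ∏ i ∈ Finset.univ.erase (0 : ZMod q), ∏ j : ZMod q, f (i, j) := by
    refine Finset.prod_congr rfl (fun i hi => ?_)
    exact Fintype.prod_equiv (Equiv.mulLeft₀ i (Finset.ne_of_mem_erase hi)) _ _ (fun t => rfl)
  rw [h1]
  simp only [zero_mul, Finset.prod_const, Finset.card_univ, ZMod.card]
  rw [mul_assoc, mul_comm (∏ i ∈ Finset.univ.erase (0 : ZMod q), ∏ j : ZMod q, f (i, j))]
  rfl

section Step

variable {H : Type*} [Group H] (Z₁ : Subgroup H) [Z₁.Normal]

open Classical in
/-- the image in the centre of the quotient -/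
noncomputable def kap (z : H) : Subgroup.center (H ⧸ Z₁) :=
  if h : (z : H ⧸ Z₁) ∈ Subgroup.center (H ⧸ Z₁) then ⟨z, h⟩ else 1

variable {Z₁} {Z : Subgroup H} (hZ : ⁅Z, (⊤ : Subgroup H)⁆ ≤ Z₁)

include hZ in
theorem mk_mem_center {z : H} (hz : z ∈ Z) : (z : H ⧸ Z₁) ∈ Subgroup.center (H ⧸ Z₁) := by
  rw [Subgroup.mem_center_iff]
  intro g
  obtain ⟨g, rfl⟩ := QuotientGroup.mk_surjective g
  have h1 : ⁅z, g⁆ ∈ Z₁ := hZ (Subgroup.commutator_mem_commutator hz trivial)
  have h2 := (QuotientGroup.eq_one_iff _).2 h1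
  change QuotientGroup.mk' Z₁ ⁅z, g⁆ = 1 at h2
  rw [map_commutatorElement, commutatorElement_eq_one_iff_mul_comm] at h2
  exact h2.symm

include hZ in
theorem kap_val {z : H} (hz : z ∈ Z) : (kap Z₁ z : H ⧸ Z₁) = z := by
  unfold kap
  rw [dif_pos (mk_mem_center hZ hz)]

include hZ in
theorem kap_mul {a b : H} (ha : a ∈ Z) (hb : b ∈ Z) : kap Z₁ (a * b) = kap Z₁ a * kap Z₁ b := by
  apply Subtype.ext
  rw [Subgroup.coe_mul, kap_val hZ ha, kap_val hZ hb, kap_val hZ (mul_mem ha hb)]
  rfl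

include hZ in
theorem kap_eq_one_iff {z : H} (hz : z ∈ Z) : kap Z₁ z = 1 ↔ z ∈ Z₁ := by
  rw [Subtype.ext_iff, kap_val hZ hz]
  exact QuotientGroup.eq_one_iff _

include hZ in
theorem kap_conj {z : H} (hz : z ∈ Z) [hn : Z.Normal] (g : H) :
    kap Z₁ (g * z * g⁻¹) = kap Z₁ z := by
  apply Subtype.ext
  rw [kap_val hZ hz, kap_val hZ (hn.conj_mem z hz g), QuotientGroup.mk_mul, QuotientGroup.mk_mul,
    Subgroup.mem_center_iff.1 (mk_mem_center hZ hz), QuotientGroup.mk_inv, mul_inv_cancel_right]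

end Step

section Main

variable {H : Type*} [Group H] [Finite H] {p q : ℕ} [Fact p.Prime] [Fact q.Prime]
  (hH : IsPGroup p H) (hpq : q ≠ p)
  (θ : ZMod q × ZMod q → MulAut H) (hθ : ∀ s t, θ (s + t) = θ s * θ t)

omit [Finite H] in
theorem comm_inv {Y K : Subgroup H} (γ : MulAut H) (hY : ∀ y ∈ Y, γ y ∈ Y)
    (hK : ∀ y ∈ K, γ y ∈ K) : ∀ z ∈ ⁅Y, K⁆, γ z ∈ ⁅Y, K⁆ := by
  have : ⁅Y, K⁆ ≤ (⁅Y, K⁆).comap γ.toMonoidHom := by
    rw [Subgroup.commutator_le]
    intro a ha b hb
    rw [Subgroup.mem_comap, map_commutatorElement]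
    exact Subgroup.commutator_mem_commutator (hY a ha) (hK b hb)
  exact fun z hz => this hz

include hH hpq hθ in
theorem fix_step (W : Subgroup H)
    (hW : ∀ s, s ≠ 0 → ∀ g ∈ ⁅fixSub (θ s), fixSub (θ s)⁆, (∀ t, θ t g = g) → g ∈ W)
    (Y : Subgroup H) [Y.Normal] (hY : ∀ t, ∀ y ∈ Y, θ t y ∈ Y) {x : H} (hx : x ∈ ⁅Y, (⊤ : Subgroup H)⁆)
    (hfix : ∀ t, θ t x = x) : ∃ w ∈ W, w⁻¹ * x ∈ ⁅⁅Y, (⊤ : Subgroup H)⁆, (⊤ : Subgroup H)⁆ := by
  classical
  set Z := ⁅Y, (⊤ : Subgroup H)⁆ with hZdef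
  set Z₁ := ⁅Z, (⊤ : Subgroup H)⁆ with hZ₁def
  have hZ : ⁅Z, (⊤ : Subgroup H)⁆ ≤ Z₁ := le_rfl
  have hZi : ∀ t, ∀ z ∈ Z, θ t z ∈ Z := fun t => comm_inv _ (hY t) (fun _ _ => trivial)
  have hZ₁i : ∀ t, ∀ z ∈ Z₁, θ t z ∈ Z₁ := fun t => comm_inv _ (hZi t) (fun _ _ => trivial)
  have hq : ¬ q ∣ Nat.card H := by
    rw [← Subgroup.card_top]; exact not_dvd_card_of_pGroup hH hpq _
  have hB : ∀ b : ZMod q × ZMod q, q • b = 0 := fun b => by ext <;> simp
  have hB1 : ∀ b : ZMod q, q • b = 0 := fun b => by simp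
  let V : Subgroup (Subgroup.center (H ⧸ Z₁)) :=
    (W.map (QuotientGroup.mk' Z₁)).subgroupOf _
  have hV : ∀ c, c ^ q ∈ V → c ∈ V := fun c hc => by
    obtain ⟨k, hk⟩ := ((hH.to_quotient Z₁).to_subgroup _) c
    exact mem_of_pow_mem_coprime hpq V hk hc
  let τ : H → Subgroup.center (H ⧸ Z₁) := fun z => ∏ t, kap Z₁ (θ t z)
  have hτ : ∀ a ∈ Z, ∀ b ∈ Z, τ (a * b) = τ a * τ b := fun a ha b hb => by
    simp only [τ, map_mul]
    rw [← Finset.prod_mul_distrib]
    exact Finset.prod_congr rfl (fun t _ => kap_mul hZ (hZi t a ha) (hZi t b hb))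
  have hτc : ∀ a ∈ Z, ∀ g, τ (g * a * g⁻¹) = τ a := fun a ha g => by
    simp only [τ, map_mul, map_inv]
    exact Finset.prod_congr rfl (fun t _ => kap_conj hZ (hZi t a ha) _)
  have hτi : ∀ s z, τ (θ s z) = τ z := fun s z => by
    simp only [τ, fam_apply θ hθ]
    exact Fintype.prod_equiv (Equiv.addRight s) _ _ (fun t => rfl)
  have hc : ∀ u ∈ Y, ∀ v, ⁅u, v⁆ ∈ Z := fun u hu v =>
    Subgroup.commutator_mem_commutator hu trivial
  have hl : ∀ a ∈ Y, ∀ b ∈ Y, ∀ v, τ ⁅a * b, v⁆ = τ ⁅a, v⁆ * τ ⁅b, v⁆ := fun a ha b hb v => by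
    have : ⁅a * b, v⁆ = a * ⁅b, v⁆ * a⁻¹ * ⁅a, v⁆ := by simp only [commutatorElement_def]; group
    rw [this, hτ _ (Subgroup.Normal.conj_mem inferInstance _ (hc b hb v) a) _ (hc a ha v),
      hτc _ (hc b hb v), mul_comm]
  have hr : ∀ u ∈ Y, ∀ a b, τ ⁅u, a * b⁆ = τ ⁅u, a⁆ * τ ⁅u, b⁆ := fun u hu a b => by
    have : ⁅u, a * b⁆ = ⁅u, a⁆ * (a * ⁅u, b⁆ * a⁻¹) := by simp only [commutatorElement_def]; group
    rw [this, hτ _ (hc u hu a) _ (Subgroup.Normal.conj_mem inferInstance _ (hc u hu b) a),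
      hτc _ (hc u hu b)]
  have hθc : ∀ s t g, θ s (θ t g) = θ t (θ s g) := fun s t g => by
    rw [fam_apply θ hθ, fam_apply θ hθ, add_comm]
  have hline : ∀ s : ZMod q × ZMod q, ∀ i j : ZMod q, θ ((i + j) • s) = θ (i • s) * θ (j • s) :=
    fun s i j => by rw [add_smul, hθ]
  have hfixl : ∀ (s : ZMod q × ZMod q) (g : H), θ s g = g → ∀ i : ZMod q, θ (i • s) g = g := by
    intro s g hg i
    have h1 : ∀ n : ℕ, θ (n • s) g = g := by
      intro n
      induction n with
      | zero => rw [zero_smul, fam_zero θ hθ]; rfl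
      | succ n ih => rw [succ_nsmul, ← fam_apply θ hθ, hg, ih]
    have := h1 i.val
    rwa [← Nat.cast_smul_eq_nsmul (ZMod q), ZMod.natCast_zmod_val] at this
  -- both arguments fixed
  have ha : ∀ s, s ≠ 0 → ∀ u ∈ Y, θ s u = u → ∀ v, θ s v = v → τ ⁅u, v⁆ ∈ V := by
    intro s hs u hu hu' v hv'
    have hCi : ∀ t, ∀ y ∈ fixSub (θ s), θ t y ∈ fixSub (θ s) := fun t y hy => by
      change θ s (θ t y) = θ t y
      rw [hθc, hy]
    obtain ⟨y, hy, h1, h2⟩ := avg_lift hB θ hθ (⁅fixSub (θ s), fixSub (θ s)⁆ ⊓ Z) hq (kap Z₁)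
      (fun a ha b hb => kap_mul hZ ha.2 hb.2)
      (fun t y hy => ⟨comm_inv _ (hCi t) (hCi t) y hy.1, hZi t y hy.2⟩)
      (fun t y hy h => (kap_eq_one_iff hZ (hZi t y hy.2)).2
        (hZ₁i t y ((kap_eq_one_iff hZ hy.2).1 h)))
      (u := ⁅u, v⁆) ⟨Subgroup.commutator_mem_commutator hu' hv', hc u hu v⟩
    change _ = τ _ at h2
    rw [← h2]
    exact ⟨y, hW s hs y hy.1 h1, (kap_val hZ hy.2).symm⟩
  -- first argument fixed
  have hb : ∀ s, s ≠ 0 → ∀ u ∈ Y, θ s u = u → ∀ v, τ ⁅u, v⁆ ∈ V := by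
    intro s hs u hu hu' v
    have h0 : ∀ (i : ZMod q) v, τ ⁅u, θ (i • s) v⁆ = τ ⁅u, v⁆ := fun i v => by
      rw [← hτi (i • s) ⁅u, v⁆, map_commutatorElement, hfixl s u hu']
    obtain ⟨y, -, h1, h2⟩ := avg_lift hB1 (fun i : ZMod q => θ (i • s)) (hline s) ⊤ hq
      (fun v => τ ⁅u, v⁆) (fun a _ b _ => hr u hu a b) (fun _ _ _ => trivial)
      (fun i y _ h => by rw [h0, h]) (u := v) trivial
    apply hV
    simp only [h0, Finset.prod_const, Finset.card_univ, ZMod.card] at h2
    rw [← h2]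
    exact ha s hs u hu hu' y (by simpa using h1 1)
  -- sums over lines
  have hd : ∀ s, s ≠ 0 → ∀ u ∈ Y, ∀ v, ∏ i : ZMod q, τ ⁅θ (i • s) u, v⁆ ∈ V := by
    intro s hs u hu v
    obtain ⟨y, hy, h1, h2⟩ := avg_lift hB1 (fun i : ZMod q => θ (i • s)) (hline s) Y hq
      (fun u => fun v => τ ⁅u, v⁆) (fun a ha b hb => funext (fun v => hl a ha b hb v))
      (fun i y hy => hY _ y hy)
      (fun i y _ h => funext (fun v => by
        have := congrFun h ((θ (i • s))⁻¹ v)
        rw [← hτi (i • s), map_commutatorElement, MulAut.apply_inv_self] at this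
        exact this)) hu
    have h3 := congrFun h2 v
    rw [Finset.prod_apply] at h3
    rw [← h3]
    exact hb s hs y hy (by simpa using h1 1) v
  have he : ∀ u ∈ Y, ∀ v, τ ⁅u, v⁆ ∈ V := by
    intro u hu v
    apply hV
    have h1 := prod_lines (fun s : ZMod q × ZMod q => τ ⁅θ s u, v⁆)
    rw [fam_zero θ hθ] at h1
    have h2 : ∏ j : ZMod q, ∏ i : ZMod q,
        τ ⁅θ (i • ((1 : ZMod q), (0 : ZMod q)) + (0, j)) u, v⁆ ∈ V :=
      Subgroup.prod_mem _ (fun j _ => by
        simp only [← fam_apply θ hθ]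
        exact hd _ (by simp) _ (hY _ u hu) v)
    rw [← V.mul_mem_cancel_right h2]
    change τ ⁅(1 : MulAut H) u, v⁆ ^ q * _ ∈ V
    rw [← h1]
    exact mul_mem (Subgroup.prod_mem _ (fun t _ => hd _ (by simp) u hu v)) (hd _ (by simp) u hu v)
  have hf : ∀ z ∈ Z, τ z ∈ V := by
    intro z hz
    have h1 : τ 1 = 1 := by
      have := hτ 1 (one_mem _) 1 (one_mem _)
      rw [one_mul] at this
      exact (mul_eq_left.1 this.symm)
    rw [hZdef, Subgroup.commutator_def] at hz
    induction hz using Subgroup.closure_induction with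
    | mem z hz =>
      obtain ⟨u, hu, v, -, rfl⟩ := hz
      exact he u hu v
    | one => rw [h1]; exact one_mem _
    | mul a b ha hb iha ihb => rw [hτ a ha b hb]; exact mul_mem iha ihb
    | inv a ha iha =>
      have : τ a⁻¹ = (τ a)⁻¹ := by
        rw [eq_inv_iff_mul_eq_one, ← hτ _ (inv_mem ha) _ ha, inv_mul_cancel, h1]
      rw [this]; exact inv_mem iha
  have h1 : kap Z₁ x ∈ V := by
    apply hV
    apply hV
    have := hf x hx
    simp only [τ, hfix, Finset.prod_const, Finset.card_univ, Fintype.card_prod, ZMod.card] at this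
    rwa [← pow_mul]
  obtain ⟨w, hw, h2⟩ := h1
  refine ⟨w, hw, QuotientGroup.eq.1 ?_⟩
  rw [← kap_val hZ hx]
  exact h2

omit [Finite H] in
theorem pow_eq_one_of_mem_biSup {C ι : Type*} [Group C] (N : ι → Subgroup C)
    (hN : ∀ i, (N i).Normal) {m : ℕ} (S : Finset ι) (hm : ∀ i ∈ S, ∀ g ∈ N i, g ^ m = 1) :
    ∀ g ∈ S.sup N, g ^ m ^ S.card = 1 := by
  classical
  induction S using Finset.induction_on with
  | empty => intro g hg; simpa using hg
  | insert i S hi ih =>
    intro g hg
    rw [Finset.sup_insert] at hg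
    have := hN i
    obtain ⟨a, ha, b, hb, rfl⟩ := Subgroup.mem_sup_of_normal_left.1 hg
    have h1 := ih (fun j hj => hm j (Finset.mem_insert_of_mem hj)) b hb
    have h2 : (a * b) ^ m ^ S.card ∈ N i := by
      rw [← QuotientGroup.eq_one_iff, QuotientGroup.mk_pow, QuotientGroup.mk_mul,
        (QuotientGroup.eq_one_iff a).2 ha, one_mul, ← QuotientGroup.mk_pow, h1,
        QuotientGroup.mk_one]
    rw [Finset.card_insert_of_notMem hi, pow_succ, pow_mul]
    exact hm i (Finset.mem_insert_self _ _) _ h2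

include hH hpq hθ in
/-- the fixed points in the derived subgroup have bounded exponent -/
theorem fix_derived {m : ℕ}
    (hm : ∀ s, s ≠ 0 → ∀ g ∈ ⁅fixSub (θ s), fixSub (θ s)⁆, g ^ m = 1) {x : H}
    (hx : x ∈ commutator H) (hfix : ∀ t, θ t x = x) : x ^ m ^ (q * q - 1) = 1 := by
  classical
  let C : Subgroup H := ⨅ t, fixSub (θ t)
  have hC : ∀ g, g ∈ C ↔ ∀ t, θ t g = g := fun g => Subgroup.mem_iInf
  let N : ZMod q × ZMod q → Subgroup C := fun s => (⁅fixSub (θ s), fixSub (θ s)⁆).subgroupOf C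
  have hN : ∀ s, (N s).Normal := fun s => ⟨fun n hn g => by
    have h1 : ∀ y ∈ fixSub (θ s), MulAut.conj (g : H) y ∈ fixSub (θ s) := fun y hy =>
      mul_mem (mul_mem ((hC _).1 g.2 s) hy) (inv_mem ((hC _).1 g.2 s))
    exact comm_inv (MulAut.conj (g : H)) h1 h1 _ hn⟩
  let S : Finset (ZMod q × ZMod q) := Finset.univ.erase 0
  let W : Subgroup H := (S.sup N).map C.subtype
  have hW : ∀ s, s ≠ 0 → ∀ g ∈ ⁅fixSub (θ s), fixSub (θ s)⁆, (∀ t, θ t g = g) → g ∈ W :=
    fun s hs g hg hg' => ⟨⟨g, (hC g).2 hg'⟩,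
      Finset.le_sup (f := N) (Finset.mem_erase.2 ⟨hs, Finset.mem_univ s⟩) hg, rfl⟩
  have hWC : W ≤ C := Subgroup.map_subtype_le _
  have hinv : ∀ i t, ∀ y ∈ (⊤ : Subgroup H).lowerCentralSeries i,
      θ t y ∈ (⊤ : Subgroup H).lowerCentralSeries i := by
    intro i t
    induction i with
    | zero => exact fun _ _ => trivial
    | succ i ih => exact comm_inv _ ih (fun _ _ => trivial)
  have := hH.isNilpotent
  obtain ⟨c, hc⟩ := Subgroup.nilpotent_iff_lowerCentralSeries.1 this
  have key : ∀ k i, i + k = c → ∀ x ∈ (⊤ : Subgroup H).lowerCentralSeries (i + 1), x ∈ C → x ∈ W := by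
    intro k
    induction k with
    | zero =>
      intro i hi x hx _
      have h1 := Subgroup.lowerCentralSeries_antitone _ (Nat.le_succ i) hx
      rw [add_zero] at hi
      rw [hi, hc, Subgroup.mem_bot] at h1
      rw [h1]; exact one_mem _
    | succ k ih =>
      intro i hi x hx hx'
      obtain ⟨w, hw, h1⟩ := fix_step hH hpq θ hθ W hW ((⊤ : Subgroup H).lowerCentralSeries i) (hinv i) hx
        ((hC x).1 hx')
      have h2 := ih (i + 1) (by omega) _ h1 (mul_mem (inv_mem (hWC hw)) hx')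
      simpa using mul_mem hw h2
  obtain ⟨y, hy, rfl⟩ := key c 0 (zero_add c) x hx ((hC x).2 hfix)
  have h1 := pow_eq_one_of_mem_biSup N hN (m := m) S
    (fun s hs g hg => Subtype.ext (hm s (Finset.ne_of_mem_erase hs) g hg)) y hy
  have h2 : S.card = q * q - 1 := by simp [S]
  rw [h2] at h1
  exact congrArg Subtype.val h1

end Main

end Cfsg.Agent.Zel.Grp
end

-- part: Zel/Grp/Main
section
/-!
# The two exponent theorems from the associative theorem
-/

set_option autoImplicit false

universe u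

namespace Cfsg.Agent.Zel.Grp

open scoped Pointwise

/-- restriction of an additive family of automorphisms to an invariant subgroup -/
def resAut {G B : Type*} [Group G] [AddCommGroup B] (θ : B → MulAut G)
    (hθ : ∀ s t, θ (s + t) = θ s * θ t) (K : Subgroup G) (hK : ∀ s, ∀ g ∈ K, θ s g ∈ K) (s : B) :
    MulAut K where
  toFun g := ⟨θ s g, hK s g g.2⟩
  invFun g := ⟨θ (-s) g, hK _ g g.2⟩
  left_inv g := Subtype.ext (by
    change θ (-s) (θ s g) = g
    rw [fam_apply θ hθ, neg_add_cancel, fam_zero θ hθ]; rfl)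
  right_inv g := Subtype.ext (by
    change θ s (θ (-s) g) = g
    rw [fam_apply θ hθ, add_neg_cancel, fam_zero θ hθ]; rfl)
  map_mul' a b := Subtype.ext (map_mul (θ s) (a : G) (b : G))

theorem resAut_add {G B : Type*} [Group G] [AddCommGroup B] (θ : B → MulAut G)
    (hθ : ∀ s t, θ (s + t) = θ s * θ t) (K : Subgroup G) (hK : ∀ s, ∀ g ∈ K, θ s g ∈ K)
    (s t : B) : resAut θ hθ K hK (s + t) = resAut θ hθ K hK s * resAut θ hθ K hK t := by
  ext g
  exact (fam_apply θ hθ s t g).symm

theorem sub_bound (hL : AssocThmAll.{u}) (q m : ℕ) [Fact q.Prime] (hm : 0 < m) :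
    ∃ e, 0 < e ∧ ∀ (G : Type u) [Group G] [Finite G] (p : ℕ) [Fact p.Prime], q ≠ p →
      ∀ θ : ZMod q × ZMod q → MulAut G, (∀ s t, θ (s + t) = θ s * θ t) →
      ∀ K : Subgroup G, IsPGroup p K → (∀ s, ∀ g ∈ K, θ s g ∈ K) →
      (∀ s, s ≠ 0 → ∀ g ∈ K, θ s g = g → g ^ m = 1) → ∀ g ∈ K, g ^ e = 1 := by
  have h1 : ∀ p : ℕ, ∃ N : ℕ, ∀ [Fact p.Prime], q ≠ p → ∀ (H : Type u) [Group H] [Finite H],
      IsPGroup p H → ∀ θ : ZMod q × ZMod q → MulAut H, (∀ s t, θ (s + t) = θ s * θ t) →
      (∀ s, s ≠ 0 → ∀ g, θ s g = g → g ^ p ^ m = 1) →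
      ∀ x, Subgroup.closure (Set.range (fun s => θ s x)) = ⊤ → x ^ p ^ N = 1 := by
    intro p
    by_cases hp : p.Prime ∧ q ≠ p
    · have := Fact.mk hp.1
      obtain ⟨N, hN⟩ := core_bound hL p q m hp.2
      exact ⟨N, fun _ => hN⟩
    · exact ⟨0, fun h => absurd ⟨Fact.out, h⟩ hp⟩
  choose N hN using h1
  refine ⟨∏ p ∈ Finset.Icc 1 m, p ^ N p, Finset.prod_pos (fun p hp =>
    pow_pos (Finset.mem_Icc.1 hp).1 _), fun G _ _ p _ hpq θ hθ K hK hKi hfix x hx => ?_⟩
  let X : Subgroup G := Subgroup.closure (Set.range (fun s => θ s x))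
  have hXK : X ≤ K := (Subgroup.closure_le _).2 (by rintro _ ⟨s, rfl⟩; exact hKi s x hx)
  have hXi : ∀ s, ∀ g ∈ X, θ s g ∈ X := by
    intro s
    have : X ≤ X.comap (θ s).toMonoidHom := (Subgroup.closure_le _).2 (by
      rintro _ ⟨t, rfl⟩
      exact Subgroup.subset_closure ⟨s + t, (fam_apply θ hθ s t x).symm⟩)
    exact fun g hg => this hg
  have hxX : x ∈ X := Subgroup.subset_closure ⟨0, by
    change θ 0 x = x
    rw [fam_zero θ hθ]; rfl⟩
  have hX : IsPGroup p X := hK.to_le hXK
  have hgen : Subgroup.closure (Set.range (fun s => resAut θ hθ X hXi s ⟨x, hxX⟩)) = ⊤ := by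
    rw [← Subgroup.map_subtype_inj, MonoidHom.map_closure, ← Set.range_comp,
      ← MonoidHom.range_eq_map, Subgroup.range_subtype]
    rfl
  have hord : ∀ s, s ≠ 0 → ∀ g : X, resAut θ hθ X hXi s g = g → ∃ j, orderOf g = p ^ j ∧
      p ^ j ∣ m := by
    intro s hs g hg
    obtain ⟨j, hj⟩ := IsPGroup.iff_orderOf.1 hX g
    refine ⟨j, hj, hj ▸ orderOf_dvd_of_pow_eq_one (Subtype.ext ?_)⟩
    exact hfix s hs g (hXK g.2) (congrArg Subtype.val hg)
  by_cases hpm : p ∣ m
  · have h2 := hN p hpq X hX _ (resAut_add θ hθ X hXi) (fun s hs g hg => by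
      obtain ⟨j, h1, h2⟩ := hord s hs g hg
      rw [← orderOf_dvd_iff_pow_eq_one, h1]
      exact pow_dvd_pow p ((Nat.lt_pow_self (Fact.out : p.Prime).one_lt).le.trans
        (Nat.le_of_dvd hm h2))) _ hgen
    have h3 : x ^ p ^ N p = 1 := congrArg Subtype.val h2
    obtain ⟨c, hc⟩ := Finset.dvd_prod_of_mem (fun p => p ^ N p)
      (Finset.mem_Icc.2 ⟨(Fact.out : p.Prime).one_le, Nat.le_of_dvd hm hpm⟩)
    rw [hc, pow_mul, h3, one_pow]
  · have h2 := core_triv p q hpq X hX _ (resAut_add θ hθ X hXi) (fun s hs g hg => by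
      obtain ⟨j, h1, h2⟩ := hord s hs g hg
      cases j with
      | zero => exact orderOf_eq_one_iff.1 h1
      | succ j => exact absurd ((dvd_pow_self p j.succ_ne_zero).trans h2) hpm) _ hgen
    have h3 : x = 1 := congrArg Subtype.val h2
    rw [h3, one_pow]

section Act

variable {A G : Type*} [Group A] [Group G] [MulDistribMulAction A G] {q : ℕ} [Fact q.Prime]
  (hc : ∀ a b : A, a * b = b * a) (he : ∀ a : A, a ^ q = 1)

/-- the element with coordinates `s` -/
def th (b c : A) (s : ZMod q × ZMod q) : A := b ^ s.1.val * c ^ s.2.val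

include he in
theorem pow_val_add (b : A) (i j : ZMod q) : b ^ (i + j).val = b ^ i.val * b ^ j.val := by
  rw [ZMod.val_add, ← pow_add, ← pow_eq_pow_mod _ (he b)]

include hc he in
theorem th_add (b c : A) (s t : ZMod q × ZMod q) : th b c (s + t) = th b c s * th b c t := by
  simp only [th, Prod.fst_add, Prod.snd_add, pow_val_add he]
  rw [mul_assoc, mul_assoc, ← mul_assoc (b ^ t.1.val), hc (b ^ t.1.val), mul_assoc]

include he in
theorem mem_of_pow_val_mem (S : Subgroup A) {c : A} {j : ZMod q} (hj : j ≠ 0)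
    (h : c ^ j.val ∈ S) : c ∈ S := by
  have h1 : (c ^ j.val) ^ (j⁻¹).val = c := by
    rw [← pow_mul, pow_eq_pow_mod _ (he c), ← ZMod.val_mul, mul_inv_cancel₀ hj, ZMod.val_one,
      pow_one]
  rw [← h1]
  exact pow_mem h _

include he in
theorem th_not_mem (S : Subgroup A) {b c : A} (hb : b ∉ S) (hc' : c ∉ S ⊔ Subgroup.zpowers b)
    {s : ZMod q × ZMod q} (hs : s ≠ 0) : th b c s ∉ S := by
  intro h
  by_cases h2 : s.2 = 0
  · have h1 : s.1 ≠ 0 := fun h1 => hs (Prod.ext h1 h2)
    rw [th, h2, ZMod.val_zero, pow_zero, mul_one] at h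
    exact hb (mem_of_pow_val_mem he S h1 h)
  · refine hc' (mem_of_pow_val_mem he _ h2 ?_)
    exact (Subgroup.mul_mem_cancel_left _ (Subgroup.mem_sup_right
      (Subgroup.npow_mem_zpowers b s.1.val))).1 (Subgroup.mem_sup_left h)

include hc he in
theorem card_sup_le [Finite A] (S : Subgroup A) (b : A) :
    Nat.card (S ⊔ Subgroup.zpowers b : Subgroup A) ≤ Nat.card S * q := by
  have hn : S.Normal := ⟨fun n hn g => by rwa [hc g n, mul_inv_cancel_right]⟩
  have h1 : Function.Surjective (fun x : S × Subgroup.zpowers b =>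
      (⟨x.1 * x.2, mul_mem (Subgroup.mem_sup_left x.1.2) (Subgroup.mem_sup_right x.2.2)⟩ :
        (S ⊔ Subgroup.zpowers b : Subgroup A))) := by
    rintro ⟨g, hg⟩
    obtain ⟨a, ha, c, hc, rfl⟩ := Subgroup.mem_sup_of_normal_left.1 hg
    exact ⟨(⟨a, ha⟩, ⟨c, hc⟩), rfl⟩
  refine (Nat.card_le_card_of_surjective _ h1).trans ?_
  rw [Nat.card_prod, Nat.card_zpowers]
  exact Nat.mul_le_mul_left _ (orderOf_le_of_pow_eq_one (Fact.out : q.Prime).pos (he b))

theorem exists_not_mem_of_card_lt [Finite A] (S : Subgroup A) (h : Nat.card S < Nat.card A) :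
    ∃ b, b ∉ S := by
  by_contra h1
  have : S = ⊤ := eq_top_iff.2 (fun b _ => by_contra (fun hb => h1 ⟨b, hb⟩))
  rw [this, Subgroup.card_top] at h
  exact lt_irrefl _ h

include hc he in
theorem exists_pair [Finite A] (S : Subgroup A) (h : Nat.card S * q < Nat.card A) :
    ∃ b c : A, ∀ s : ZMod q × ZMod q, s ≠ 0 → th b c s ∉ S := by
  obtain ⟨b, hb⟩ := exists_not_mem_of_card_lt S
    (lt_of_le_of_lt (Nat.le_mul_of_pos_right _ (Fact.out : q.Prime).pos) h)
  obtain ⟨c, hc'⟩ := exists_not_mem_of_card_lt _ (lt_of_le_of_lt (card_sup_le hc he S b) h)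
  exact ⟨b, c, fun s hs => th_not_mem he S hb hc' hs⟩

variable (G) in
/-- the family of automorphisms given by two elements -/
def thAut (b c : A) (s : ZMod q × ZMod q) : MulAut G := MulDistribMulAction.toMulAut A G (th b c s)

include hc he in
theorem thAut_add (b c : A) (s t : ZMod q × ZMod q) :
    thAut G b c (s + t) = thAut G b c s * thAut G b c t := by
  simp only [thAut, th_add hc he, map_mul]

theorem thAut_apply (b c : A) (s : ZMod q × ZMod q) (g : G) : thAut G b c s g = th b c s • g := rfl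

omit [Fact q.Prime] in
theorem mem_fixed_zpowers {a : A} {g : G} :
    g ∈ FixedPoints.subgroup (Subgroup.zpowers a) G ↔ a • g = g := by
  rw [FixedPoints.mem_subgroup]
  constructor
  · intro h; exact h ⟨a, Subgroup.mem_zpowers a⟩
  · rintro h ⟨_, k, rfl⟩
    exact zpow_mem (show a ∈ MulAction.stabilizer A g from h) k

include he in
theorem exists_inv_sylow [Finite G] (hq : ¬ q ∣ Nat.card G) (p : ℕ) [Fact p.Prime] :
    ∃ P : Sylow p G, ∀ a : A, ∀ x ∈ (P : Subgroup G), a • x ∈ (P : Subgroup G) := by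
  have hA : IsPGroup q A := fun a => ⟨1, by rw [pow_one, he]⟩
  obtain ⟨P, hP⟩ := hA.nonempty_fixed_point_of_prime_not_dvd_card (Sylow p G) (fun h => by
    obtain ⟨P⟩ : Nonempty (Sylow p G) := inferInstance
    exact hq (h.trans (P.card_dvd_index.trans (Subgroup.index_dvd_card _))))
  refine ⟨P, fun a x hx => ?_⟩
  have h1 : a • (P : Subgroup G) = P := by rw [← Sylow.pointwise_smul_def, hP a]
  rw [← h1]
  exact Subgroup.smul_mem_pointwise_smul _ _ _ hx

end Act

theorem pow_eq_one_of_sylow {G : Type*} [Group G] [Finite G] (N : Subgroup G) [hN : N.Normal]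
    {q e : ℕ} (hq : ¬ q ∣ Nat.card G)
    (h : ∀ (p : ℕ) [Fact p.Prime], q ≠ p → ∃ P : Sylow p G, ∀ x ∈ (P : Subgroup G) ⊓ N, x ^ e = 1)
    {g : G} (hg : g ∈ N) : g ^ e = 1 := by
  rw [← orderOf_dvd_iff_pow_eq_one, Nat.dvd_iff_prime_pow_dvd_dvd]
  intro p k hp hk
  have := Fact.mk hp
  rcases Nat.eq_zero_or_pos k with rfl | hk0
  · simp
  have hpq : q ≠ p := by
    rintro rfl
    exact hq (((dvd_pow_self q hk0.ne').trans hk).trans (orderOf_dvd_natCard g))
  obtain ⟨P, hP⟩ := h p hpq
  set x := g ^ (orderOf g / p ^ k)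
  have hx : orderOf x = p ^ k := orderOf_pow_orderOf_div (orderOf_pos g).ne' hk
  have h1 : IsPGroup p (Subgroup.zpowers x) := IsPGroup.of_card (by rw [Nat.card_zpowers, hx])
  obtain ⟨Q, hQ⟩ := h1.exists_le_sylow
  obtain ⟨y, hy⟩ := MulAction.exists_smul_eq G Q P
  have h2 : y * x * y⁻¹ ∈ (P : Subgroup G) := by
    rw [← hy, Sylow.coe_subgroup_smul]
    exact Subgroup.smul_mem_pointwise_smul _ (MulAut.conj y) _ (hQ (Subgroup.mem_zpowers x))
  have h3 := hP _ ⟨h2, hN.conj_mem _ (pow_mem hg _) y⟩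
  rw [conj_pow, conj_eq_one_iff] at h3
  rw [← hx]
  exact orderOf_dvd_of_pow_eq_one h3

theorem main4315 (hL : AssocThmAll.{u}) :
    ∃ f : ℕ → ℕ → ℕ, ∀ (q m : ℕ) (A G : Type u) [Group A] [Finite A] [Group G] [Finite G]
      [MulDistribMulAction A G],
      q.Prime → 0 < m → Nat.card A = q ^ 2 → ¬ IsCyclic A → ¬ q ∣ Nat.card G →
      (∀ a : A, a ≠ 1 → Monoid.exponent ↥(FixedPoints.subgroup (Subgroup.zpowers a) G) ∣ m) →
      Monoid.exponent G ≤ f q m := by
  suffices h : ∀ q m : ℕ, ∃ e : ℕ, ∀ (A G : Type u) [Group A] [Finite A] [Group G] [Finite G]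
      [MulDistribMulAction A G],
      q.Prime → 0 < m → Nat.card A = q ^ 2 → ¬ IsCyclic A → ¬ q ∣ Nat.card G →
      (∀ a : A, a ≠ 1 → Monoid.exponent ↥(FixedPoints.subgroup (Subgroup.zpowers a) G) ∣ m) →
      Monoid.exponent G ≤ e by
    choose f hf using h
    exact ⟨f, hf⟩
  intro q m
  by_cases hqm : q.Prime ∧ 0 < m
  swap
  · exact ⟨0, fun _ _ _ _ _ _ _ hq hm => absurd ⟨hq, hm⟩ hqm⟩
  have := Fact.mk hqm.1
  obtain ⟨e, he0, he⟩ := sub_bound hL q m hqm.2
  refine ⟨e, fun A G _ _ _ _ _ hq _ hA hcyc hG hfix => ?_⟩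
  have hc : ∀ a b : A, a * b = b * a := (IsPGroup.isMulCommutative_of_card_eq_prime_sq hA).is_comm.comm
  have hexp : ∀ a : A, a ^ q = 1 := by
    intro a
    have h1 : orderOf a ∣ q ^ 2 := hA ▸ orderOf_dvd_natCard a
    obtain ⟨k, hk, h2⟩ := (Nat.dvd_prime_pow hq).1 h1
    by_cases h3 : k = 2
    · exact absurd (isCyclic_of_orderOf_eq_card a (by rw [h2, h3, hA])) hcyc
    · rw [← orderOf_dvd_iff_pow_eq_one, h2]
      conv_rhs => rw [← pow_one q]
      exact pow_dvd_pow q (by omega)
  obtain ⟨b, c, hbc⟩ := exists_pair hc hexp ⊥ (by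
    rw [hA, Subgroup.card_bot, one_mul, sq]
    exact lt_mul_self hq.one_lt)
  refine Nat.le_of_dvd he0 (Monoid.exponent_dvd_of_forall_pow_eq_one (fun g => ?_))
  refine pow_eq_one_of_sylow ⊤ hG (fun p _ hpq => ?_) trivial
  obtain ⟨P, hP⟩ := exists_inv_sylow hexp hG p
  refine ⟨P, fun x hx => he G p hpq (thAut G b c) (thAut_add hc hexp b c) P P.2
    (fun s g hg => hP _ g hg) (fun s hs g _ hg => ?_) x hx.1⟩
  have h1 := Monoid.exponent_dvd_iff_forall_pow_eq_one.1 (hfix (th b c s) (hbc s hs))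
    ⟨g, mem_fixed_zpowers.2 hg⟩
  exact congrArg Subtype.val h1

/-- the statement S4318 -/
def Focal : Prop :=
  ∀ (A G : Type u) [Group A] [Finite A] [Group G] [Finite G] [MulDistribMulAction A G] (q : ℕ),
    q.Prime → Nat.card A = q ^ 3 → (∀ a b : A, a * b = b * a) → (∀ a : A, a ^ q = 1) →
    ¬ q ∣ Nat.card G → ∀ (p : ℕ) [Fact p.Prime] (P : Sylow p G),
    (∀ a : A, ∀ x : G, x ∈ (P : Subgroup G) → a • x ∈ (P : Subgroup G)) →
    (P : Subgroup G) ⊓ commutator G =
      ⨆ a : {a : A // a ≠ 1}, (P : Subgroup G) ⊓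
        (commutator ↥(FixedPoints.subgroup (Subgroup.zpowers (a : A)) G)).map
          (FixedPoints.subgroup (Subgroup.zpowers (a : A)) G).subtype

theorem main4317 (hL : AssocThmAll.{u}) (hF : Focal.{u}) :
    ∃ f : ℕ → ℕ → ℕ, ∀ (q m : ℕ) (A G : Type u) [Group A] [Finite A] [Group G] [Finite G]
      [MulDistribMulAction A G],
      q.Prime → 0 < m → Nat.card A = q ^ 3 → (∀ a b : A, a * b = b * a) → (∀ a : A, a ^ q = 1) →
      ¬ q ∣ Nat.card G →
      (∀ a : A, a ≠ 1 →
        Monoid.exponent ↥(commutator ↥(FixedPoints.subgroup (Subgroup.zpowers a) G)) ∣ m) →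
      Monoid.exponent ↥(commutator G) ≤ f q m := by
  suffices h : ∀ q m : ℕ, ∃ e : ℕ, ∀ (A G : Type u) [Group A] [Finite A] [Group G] [Finite G]
      [MulDistribMulAction A G],
      q.Prime → 0 < m → Nat.card A = q ^ 3 → (∀ a b : A, a * b = b * a) → (∀ a : A, a ^ q = 1) →
      ¬ q ∣ Nat.card G →
      (∀ a : A, a ≠ 1 →
        Monoid.exponent ↥(commutator ↥(FixedPoints.subgroup (Subgroup.zpowers a) G)) ∣ m) →
      Monoid.exponent ↥(commutator G) ≤ e by
    choose f hf using h
    exact ⟨f, hf⟩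
  intro q m
  by_cases hqm : q.Prime ∧ 0 < m
  swap
  · exact ⟨0, fun _ _ _ _ _ _ _ hq hm => absurd ⟨hq, hm⟩ hqm⟩
  have := Fact.mk hqm.1
  obtain ⟨e₁, he₁0, he₁⟩ := sub_bound hL q (m ^ (q * q - 1)) (pow_pos hqm.2 _)
  obtain ⟨e₂, he₂0, he₂⟩ := sub_bound hL q e₁ he₁0
  refine ⟨m * e₂, fun A G _ _ _ _ _ hq hm hA hc hexp hG hfix => ?_⟩
  refine Nat.le_of_dvd (mul_pos hm he₂0)
    (Monoid.exponent_dvd_of_forall_pow_eq_one (fun g => Subtype.ext ?_))
  refine pow_eq_one_of_sylow (commutator G) hG (fun p _ hpq => ?_) g.2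
  obtain ⟨P, hP⟩ := exists_inv_sylow hexp hG p
  refine ⟨P, ?_⟩
  set K : Subgroup G := (P : Subgroup G) ⊓ commutator G with hKdef
  have hK : IsPGroup p K := P.2.to_le inf_le_left
  have hcm : ∀ (X : Subgroup G), (commutator X).map X.subtype = ⁅X, X⁆ := fun X =>
    Subgroup.map_subtype_commutator X
  have hfix' : ∀ a : A, a ≠ 1 → ∀ g ∈ ⁅FixedPoints.subgroup (Subgroup.zpowers a) G,
      FixedPoints.subgroup (Subgroup.zpowers a) G⁆, g ^ m = 1 := by
    intro a ha g hg
    rw [← hcm] at hg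
    obtain ⟨y, hy, rfl⟩ := hg
    have h1 := Monoid.exponent_dvd_iff_forall_pow_eq_one.1 (hfix a ha) ⟨y, hy⟩
    exact congrArg (fun z => ((z : commutator _) : FixedPoints.subgroup (Subgroup.zpowers a) G).1) h1
  have hKi : ∀ a : A, ∀ g ∈ K, a • g ∈ K := fun a g hg =>
    ⟨hP a g hg.1, comm_inv (Y := ⊤) (K := ⊤) (MulDistribMulAction.toMulAut A G a)
      (fun _ _ => trivial) (fun _ _ => trivial) g hg.2⟩
  have hKi' : ∀ a : A, ∀ g ∈ ⁅K, K⁆, a • g ∈ ⁅K, K⁆ := fun a =>
    comm_inv (MulDistribMulAction.toMulAut A G a) (hKi a) (hKi a)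
  have hKK : ⁅K, K⁆ ≤ K := Subgroup.commutator_le_self K
  -- rank two fixed points
  have h1 : ∀ a d : A, a ≠ 1 → d ∉ Subgroup.zpowers a → ∀ g ∈ ⁅K, K⁆, a • g = g → d • g = g →
      g ^ m ^ (q * q - 1) = 1 := by
    intro a d ha hd g hg hag hdg
    have hne : ∀ s : ZMod q × ZMod q, s ≠ 0 → th a d s ≠ 1 := fun s hs =>
      th_not_mem hexp ⊥ ha (by rwa [bot_sup_eq]) hs
    rw [← hcm] at hg
    obtain ⟨y, hy, rfl⟩ := hg
    have h2 := fix_derived hK hpq _ (resAut_add (thAut G a d) (thAut_add hc hexp a d) K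
      (fun s => hKi _)) (m := m) (fun s hs z hz => by
        apply Subtype.ext
        refine hfix' _ (hne s hs) z ?_
        have h3 := Subgroup.mem_map_of_mem K.subtype hz
        rw [Subgroup.map_commutator] at h3
        have h4 : (fixSub (resAut (thAut G a d) (thAut_add hc hexp a d) K
            (fun s => hKi _) s)).map K.subtype ≤
            FixedPoints.subgroup (Subgroup.zpowers (th a d s)) G := by
          rintro _ ⟨w, hw, rfl⟩
          exact mem_fixed_zpowers.2 (congrArg Subtype.val hw)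
        exact Subgroup.commutator_mono h4 h4 h3) hy (fun t => Subtype.ext (by
          exact mul_mem (pow_mem (show a ∈ MulAction.stabilizer A (y : G) from hag) _)
            (pow_mem (show d ∈ MulAction.stabilizer A (y : G) from hdg) _)))
    exact congrArg Subtype.val h2
  -- rank one fixed points
  have h2 : ∀ a : A, a ≠ 1 → ∀ g ∈ ⁅K, K⁆, a • g = g → g ^ e₁ = 1 := by
    intro a ha g hg hag
    obtain ⟨b, c, hbc⟩ := exists_pair hc hexp (Subgroup.zpowers a) (by
      rw [hA, Nat.card_zpowers]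
      calc orderOf a * q ≤ q * q :=
            Nat.mul_le_mul_right _ (orderOf_le_of_pow_eq_one hq.pos (hexp a))
        _ = q ^ 2 := (sq q).symm
        _ < q ^ 3 := Nat.pow_lt_pow_right hq.one_lt (by omega))
    refine he₁ G p hpq (thAut G b c) (thAut_add hc hexp b c)
      (⁅K, K⁆ ⊓ FixedPoints.subgroup (Subgroup.zpowers a) G) (hK.to_le (inf_le_left.trans hKK))
      (fun s y hy => ⟨hKi' _ y hy.1, mem_fixed_zpowers.2 ?_⟩)
      (fun s hs y hy hy' => h1 a _ ha (hbc s hs) y hy.1 (mem_fixed_zpowers.1 hy.2) hy') g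
      ⟨hg, mem_fixed_zpowers.2 hag⟩
    rw [thAut_apply, smul_smul, hc, ← smul_smul, mem_fixed_zpowers.1 hy.2]
  have h3 : ∀ g ∈ ⁅K, K⁆, g ^ e₂ = 1 := by
    obtain ⟨b, c, hbc⟩ := exists_pair hc hexp ⊥ (by
      rw [hA, Subgroup.card_bot, one_mul]
      conv_lhs => rw [← pow_one q]
      exact Nat.pow_lt_pow_right hq.one_lt (by omega))
    exact he₂ G p hpq (thAut G b c) (thAut_add hc hexp b c) _ (hK.to_le hKK)
      (fun s y hy => hKi' _ y hy) (fun s hs y hy hy' => h2 _ (hbc s hs) y hy hy')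
  -- the abelianisation of `K`
  have h4 : ∀ g ∈ K, g ^ m ∈ ⁅K, K⁆ := by
    let f : K →* Abelianization K := (powMonoidHom m).comp Abelianization.of
    have h5 : K ≤ f.ker.map K.subtype := by
      conv_lhs => rw [hKdef, hF A G q hq hA hc hexp hG p P hP]
      refine iSup_le (fun a g hg => ?_)
      rw [hcm] at hg
      have hgK : g ∈ K := ⟨hg.1, Subgroup.commutator_mono le_top le_top hg.2⟩
      refine ⟨⟨g, hgK⟩, ?_, rfl⟩
      change (Abelianization.of (⟨g, hgK⟩ : K)) ^ m = 1
      rw [← map_pow, ← map_one Abelianization.of]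
      congr 1
      exact Subtype.ext (hfix' a a.2 g hg.2)
    intro g hg
    obtain ⟨y, hy, rfl⟩ := h5 hg
    have h6 : y ^ m ∈ commutator K := by
      rw [← Abelianization.ker_of, MonoidHom.mem_ker, map_pow]
      exact hy
    rw [← hcm]
    exact ⟨y ^ m, h6, rfl⟩
  intro x hx
  rw [pow_mul]
  exact h3 _ (h4 x hx)

end Cfsg.Agent.Zel.Grp
end

-- part: Zel/Grp/Glue
section
/-!
# The associative theorem from the two boxes
-/

set_option autoImplicit false

universe u

namespace Cfsg.Agent.Zel.Grp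

open Cfsg.Agent.Zel Cfsg.Agent.Zel.PI

theorem GrFam.cm_mem {q n : ℕ} {R α : Type*} [Ring R] {G : ZMod q → R → Prop} (h : GrFam q n G)
    {x : α → R} {deg : α → ZMod q} (hx : ∀ a, G (deg a) (x a)) (t : FreeMagma α) :
    G (dg deg t) (cm x t) := by
  induction t with
  | ih1 a => exact hx a
  | ih2 s t hs ht => exact h.lie _ _ _ _ hs ht

theorem assocThmAll_of_boxes (hB : BZBox.{u}) (hZ : ZBox.{u}) : AssocThmAll.{u} :=
  fun p q n _ hq _ d R _ _ _ hG x deg hx =>
    hZ (AlgebraicClosure (ZMod p)) R d x (fun t => ⟨n, hG.nil _ _ (hG.cm_mem hx t)⟩)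
      (hB (AlgebraicClosure (ZMod p)) R q n d x deg hq.pos
        (fun y hy => hG.sym _ (fun i => hy i ▸ hG.cm_mem hx (y i))))

end Cfsg.Agent.Zel.Grp
end

-- part: Zel/BZ/Count
section
/-!
# Decomposable words and their number

A word is `k`-decomposable when it contains `k` consecutive blocks, the first letter of every block
being larger than all later letters of the blocks.  The number of `k`-indecomposable permutations of
`N` letters is `o(N! / r ^ N)` for every `r`.
-/

set_option autoImplicit false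

namespace Cfsg.Agent.Zel.BZ

open Finset

section Words

variable {α : Type*} [LinearOrder α]

/-- a chain of blocks: the first letter of a block is larger than everything after it -/
inductive Good : List (List α) → Prop
  | nil : Good []
  | cons (a : α) (t : List α) (bs : List (List α)) : (∀ c ∈ t, c < a) →
      (∀ c ∈ bs.flatten, c < a) → Good bs → Good ((a :: t) :: bs)

theorem Good.right {p q : List (List α)} (h : Good (p ++ q)) : Good q := by
  induction p with
  | nil => exact h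
  | cons b p ih =>
    rw [List.cons_append] at h
    cases h with
    | cons a t bs h1 h2 h3 => exact ih h3

theorem Good.merge (gs : List (List (List α))) (s : List (List α)) (hne : ∀ g ∈ gs, g ≠ [])
    (h : Good (gs.flatten ++ s)) : Good (gs.map List.flatten) := by
  induction gs with
  | nil => exact Good.nil
  | cons g gs ih =>
    have hg := hne g (List.mem_cons_self ..)
    obtain ⟨b, g', rfl⟩ := List.exists_cons_of_ne_nil hg
    have h' : Good (gs.flatten ++ s) := by
      rw [List.flatten_cons, List.append_assoc] at h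
      exact h.right
    rw [List.flatten_cons, List.append_assoc, List.cons_append] at h
    cases h with
    | cons a t bs h1 h2 h3 =>
      rw [List.map_cons, List.flatten_cons, List.cons_append]
      refine Good.cons a _ _ ?_ ?_ (ih (fun g hg => hne g (List.mem_cons_of_mem _ hg)) h')
      · intro c hc
        rcases List.mem_append.1 hc with hc | hc
        · exact h1 c hc
        · apply h2
          rw [List.flatten_append]
          exact List.mem_append_left _ hc
      · intro c hc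
        apply h2
        rw [List.flatten_append, List.flatten_append]
        apply List.mem_append_right
        apply List.mem_append_left
        rw [List.flatten_flatten]
        exact hc

/-- `k`-decomposable words -/
def Dec (k : ℕ) (w : List α) : Prop :=
  ∃ (p : List α) (bs : List (List α)) (s : List α),
    Good bs ∧ bs.length = k ∧ w = p ++ bs.flatten ++ s

theorem dec_zero (w : List α) : Dec 0 w := ⟨[], [], w, Good.nil, rfl, by simp⟩

theorem Dec.left {k : ℕ} {u : List α} (h : Dec k u) (v : List α) : Dec k (u ++ v) := by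
  obtain ⟨p, bs, s, h1, h2, rfl⟩ := h
  exact ⟨p, bs, s ++ v, h1, h2, by simp⟩

theorem Dec.right {k : ℕ} {v : List α} (h : Dec k v) (u : List α) (m : α) (hm : ∀ c ∈ v, c < m) :
    Dec (k + 1) (u ++ m :: v) := by
  obtain ⟨p, bs, s, h1, h2, rfl⟩ := h
  refine ⟨u, (m :: p) :: bs, s, Good.cons m p bs ?_ ?_ h1, by simp [h2], by simp⟩
  · intro c hc
    exact hm c (by simp [hc])
  · intro c hc
    exact hm c (List.mem_append_left _ (List.mem_append_right _ hc))

open Classical in
/-- the `k`-indecomposable arrangements of the letters of `S` -/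
noncomputable def ind (k : ℕ) (S : Finset α) : Finset (List α) :=
  (S.val.lists.toFinset).filter fun w => ¬ Dec k w

theorem mem_ind {k : ℕ} {S : Finset α} {w : List α} :
    w ∈ ind k S ↔ (w : Multiset α) = S.val ∧ ¬ Dec k w := by
  classical
  unfold ind
  rw [Finset.mem_filter, Multiset.mem_toFinset, Multiset.mem_lists_iff]
  exact and_congr_left' eq_comm

/-- the bound on the number of indecomposable words -/
def cf : ℕ → ℕ → ℕ
  | 0, _ => 0
  | _ + 1, 0 => 1
  | k + 1, N + 1 => ∑ j : Fin (N + 1), N.choose j * (cf (k + 1) j * cf k (N - j))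
termination_by k N => (k, N)
decreasing_by
  · exact Prod.Lex.right _ j.2
  · exact Prod.Lex.left _ _ (Nat.lt_succ_self k)

theorem cf_realised : True := by have := @cf.eq_def; trivial

theorem cf_zero (N : ℕ) : cf 0 N = 0 := by rw [cf]

theorem cf_succ_zero (k : ℕ) : cf (k + 1) 0 = 1 := by rw [cf]

theorem cf_succ_succ (k N : ℕ) :
    cf (k + 1) (N + 1) = ∑ j ∈ range (N + 1), N.choose j * (cf (k + 1) j * cf k (N - j)) := by
  rw [cf]
  exact Fin.sum_univ_eq_sum_range (fun j => N.choose j * (cf (k + 1) j * cf k (N - j))) (N + 1)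

theorem card_ind_le (k : ℕ) : ∀ (N : ℕ) (S : Finset α), S.card = N → (ind k S).card ≤ cf k N := by
  classical
  induction k with
  | zero =>
    intro N S _
    have : ind 0 S = ∅ := by
      rw [Finset.eq_empty_iff_forall_notMem]
      intro w hw
      exact (mem_ind.1 hw).2 (dec_zero w)
    simp [this]
  | succ k ihk =>
    intro N
    induction N using Nat.strong_induction_on with
    | _ N ihN =>
    intro S hS
    rcases N with _ | N
    · rw [cf_succ_zero, Finset.card_le_one]
      intro a ha b hb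
      have hS' : S = ∅ := Finset.card_eq_zero.1 hS
      subst hS'
      have h1 := (mem_ind.1 ha).1
      have h2 := (mem_ind.1 hb).1
      simp only [Finset.empty_val, Multiset.coe_eq_zero] at h1 h2
      rw [h1, h2]
    · have hne : S.Nonempty := Finset.card_pos.1 (by omega)
      set m := S.max' hne with hm
      have hmS : m ∈ S := S.max'_mem hne
      have hcard : (S.erase m).card = N := by rw [Finset.card_erase_of_mem hmS, hS]; rfl
      have hsub : ind (k + 1) S ⊆ (S.erase m).powerset.biUnion fun T =>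
          ((ind (k + 1) T) ×ˢ (ind k (S.erase m \ T))).image fun z => z.1 ++ m :: z.2 := by
        intro w hw
        obtain ⟨hw1, hw2⟩ := mem_ind.1 hw
        have hnd : w.Nodup := by
          have := S.nodup
          rw [← hw1] at this
          exact this
        have hmem : ∀ c, c ∈ w ↔ c ∈ S := by
          intro c
          rw [← Finset.mem_val, ← hw1]
          rfl
        obtain ⟨u, v, rfl⟩ := List.append_of_mem ((hmem m).2 hmS)
        have hnd' := List.nodup_append.1 hnd
        have hv := List.nodup_cons.1 hnd'.2.1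
        have hmu : m ∉ u := fun h => hnd'.2.2 m h m (List.mem_cons_self ..) rfl
        rw [Finset.mem_biUnion]
        refine ⟨u.toFinset, ?_, ?_⟩
        · rw [Finset.mem_powerset]
          intro c hc
          rw [List.mem_toFinset] at hc
          rw [Finset.mem_erase]
          exact ⟨fun h => hmu (h ▸ hc), (hmem c).1 (List.mem_append_left _ hc)⟩
        · rw [Finset.mem_image]
          refine ⟨(u, v), ?_, rfl⟩
          rw [Finset.mem_product]
          constructor
          · rw [mem_ind]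
            refine ⟨?_, fun h => hw2 (h.left _)⟩
            rw [List.toFinset_val, List.dedup_eq_self.2 hnd'.1]
          · rw [mem_ind]
            refine ⟨?_, fun h => hw2 (h.right u m ?_)⟩
            · have : S.erase m \ u.toFinset = v.toFinset := by
                ext c
                rw [Finset.mem_sdiff, Finset.mem_erase, List.mem_toFinset, List.mem_toFinset,
                  ← hmem, List.mem_append, List.mem_cons]
                constructor
                · rintro ⟨⟨h1, h2 | h2 | h2⟩, h3⟩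
                  · exact absurd h2 h3
                  · exact absurd h2 h1
                  · exact h2
                · intro h
                  refine ⟨⟨fun h' => hv.1 (h' ▸ h), Or.inr (Or.inr h)⟩, fun h' => ?_⟩
                  exact hnd'.2.2 c h' c (List.mem_cons_of_mem _ h) rfl
              rw [this, List.toFinset_val, List.dedup_eq_self.2 hv.2]
            · intro c hc
              have h1 : c ∈ S := (hmem c).1 (List.mem_append_right _ (List.mem_cons_of_mem _ hc))
              exact lt_of_le_of_ne (S.le_max' c h1) fun h => hv.1 (h ▸ hc)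
      refine (Finset.card_le_card hsub).trans (Finset.card_biUnion_le.trans ?_)
      rw [cf_succ_succ]
      have hsum := Finset.sum_powerset_apply_card (fun j => cf (k + 1) j * cf k (N - j))
        (x := S.erase m)
      rw [hcard] at hsum
      simp only [smul_eq_mul] at hsum
      rw [← hsum]
      refine Finset.sum_le_sum fun T hT => ?_
      have hT' := Finset.mem_powerset.1 hT
      refine Finset.card_image_le.trans ?_
      rw [Finset.card_product]
      refine Nat.mul_le_mul (ihN _ ?_ T rfl) (ihk _ _ ?_)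
      · have := Finset.card_le_card hT'
        omega
      · rw [Finset.card_sdiff_of_subset hT', hcard]

end Words

/-- `cf k N * r ^ N / N !` is bounded -/
theorem cf_bound (k : ℕ) : ∀ r : ℝ, 0 < r → ∃ C : ℝ, 0 ≤ C ∧
    ∀ N, (cf k N : ℝ) * r ^ N / N.factorial ≤ C := by
  induction k with
  | zero =>
    intro r _
    exact ⟨0, le_rfl, fun N => by simp [cf_zero]⟩
  | succ k ih =>
    intro r hr
    obtain ⟨C, hC0, hC⟩ := ih (2 * r) (by positivity)
    obtain ⟨N0, hN0⟩ := exists_nat_ge (2 * r * C)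
    set b : ℕ → ℝ := fun N => (cf (k + 1) N : ℝ) * r ^ N / N.factorial with hb
    have hb0 : ∀ N, 0 ≤ b N := fun N => by positivity
    refine ⟨∑ j ∈ range (N0 + 1), b j, Finset.sum_nonneg fun j _ => hb0 j, fun N => ?_⟩
    set B := ∑ j ∈ range (N0 + 1), b j with hB
    have hB0 : 0 ≤ B := Finset.sum_nonneg fun j _ => hb0 j
    change b N ≤ B
    induction N using Nat.strong_induction_on with
    | _ N ihN =>
    by_cases hN : N ≤ N0
    · exact Finset.single_le_sum (f := b) (fun j _ => hb0 j) (Finset.mem_range.2 (by omega))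
    · obtain ⟨N, rfl⟩ : ∃ M, N = M + 1 := ⟨N - 1, by omega⟩
      have hterm : ∀ j ∈ range (N + 1),
          ((N.choose j * (cf (k + 1) j * cf k (N - j)) : ℕ) : ℝ) * r ^ (N + 1) /
            (N + 1).factorial ≤ r / (N + 1) * (B * C) * (1 / 2) ^ (N - j) := by
        intro j hj
        have hj' : j ≤ N := Nat.lt_succ_iff.1 (Finset.mem_range.1 hj)
        have h1 : b j ≤ B := ihN j (by omega)
        have h2 := hC (N - j)
        have h3 : ((N.choose j : ℕ) : ℝ) * j.factorial * (N - j).factorial = N.factorial := by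
          exact_mod_cast Nat.choose_mul_factorial_mul_factorial hj'
        have h4 : ((N.choose j * (cf (k + 1) j * cf k (N - j)) : ℕ) : ℝ) * r ^ (N + 1) /
            (N + 1).factorial = r / (N + 1) * (b j * ((cf k (N - j) : ℝ) * (2 * r) ^ (N - j) /
              (N - j).factorial)) * (1 / 2) ^ (N - j) := by
          have e1 : r ^ (N + 1) = r * r ^ j * r ^ (N - j) := by
            rw [mul_assoc, ← pow_add, ← pow_succ']
            congr 1
            omega
          have hc : ((N.choose j : ℕ) : ℝ) ≠ 0 := by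
            exact_mod_cast (Nat.choose_pos hj').ne'
          rw [Nat.factorial_succ, e1, hb]
          push_cast
          rw [← h3, mul_pow, one_div, inv_pow]
          field_simp
        rw [h4]
        have h5 : b j * ((cf k (N - j) : ℝ) * (2 * r) ^ (N - j) / (N - j).factorial) ≤ B * C :=
          mul_le_mul h1 h2 (by positivity) hB0
        gcongr
      have hgeo : ∑ j ∈ range (N + 1), ((1 : ℝ) / 2) ^ (N - j) ≤ 2 := by
        have := Finset.sum_range_reflect (fun j => ((1 : ℝ) / 2) ^ j) (N + 1)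
        simp only [Nat.add_sub_cancel] at this
        rw [this]
        exact sum_geometric_two_le _
      have hN1 : 2 * r * C ≤ (N : ℝ) + 1 := by
        have : (N0 : ℝ) ≤ N + 1 := by exact_mod_cast (by omega : N0 ≤ N + 1)
        linarith
      calc b (N + 1) = ∑ j ∈ range (N + 1),
            ((N.choose j * (cf (k + 1) j * cf k (N - j)) : ℕ) : ℝ) * r ^ (N + 1) /
              (N + 1).factorial := by
            rw [hb]
            simp only []
            rw [cf_succ_succ, Nat.cast_sum, Finset.sum_mul, Finset.sum_div]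
        _ ≤ ∑ j ∈ range (N + 1), r / (N + 1) * (B * C) * (1 / 2) ^ (N - j) :=
            Finset.sum_le_sum hterm
        _ = r / (N + 1) * (B * C) * ∑ j ∈ range (N + 1), ((1 : ℝ) / 2) ^ (N - j) := by
            rw [Finset.mul_sum]
        _ ≤ r / (N + 1) * (B * C) * 2 := by gcongr
        _ = (2 * r * C) / (N + 1) * B := by ring
        _ ≤ 1 * B := by
            gcongr
            rw [div_le_one (by positivity)]
            exact hN1
        _ = B := one_mul B

theorem exists_cf_lt (k q : ℕ) : ∃ N, q ^ N * cf k N < N.factorial := by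
  obtain ⟨C, hC0, hC⟩ := cf_bound k (2 * (q + 1)) (by positivity)
  obtain ⟨N, hN⟩ := pow_unbounded_of_one_lt C (one_lt_two (α := ℝ))
  refine ⟨N, ?_⟩
  have h1 := hC N
  have hf : (0 : ℝ) < N.factorial := by exact_mod_cast N.factorial_pos
  rw [div_le_iff₀ hf, mul_pow] at h1
  have h2 : (q : ℝ) ^ N ≤ (q + 1) ^ N := by gcongr; linarith
  have h3 : (2 : ℝ) ^ N * ((q : ℝ) ^ N * cf k N) < 2 ^ N * N.factorial := by
    calc (2 : ℝ) ^ N * ((q : ℝ) ^ N * cf k N) ≤ 2 ^ N * (((q : ℝ) + 1) ^ N * cf k N) := by gcongr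
      _ = cf k N * (2 ^ N * ((q : ℝ) + 1) ^ N) := by ring
      _ ≤ C * N.factorial := h1
      _ < 2 ^ N * N.factorial := by gcongr
  have h4 := lt_of_mul_lt_mul_left h3 (by positivity)
  exact_mod_cast h4

section Pigeon

variable {β D : Type*} [AddCommGroup D] [DecidableEq D]

/-- the number of prefixes of a list with sum `d` -/
def pc (f : β → D) : D → List β → ℕ
  | d, [] => if d = 0 then 1 else 0
  | d, x :: l => (if d = 0 then 1 else 0) + pc f (d - f x) l

theorem pc_realised : True := by have := @pc.eq_def.{0, 0}; trivial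

theorem pc_nil (f : β → D) (d : D) : pc f d [] = if d = 0 then 1 else 0 := rfl

theorem pc_cons (f : β → D) (d : D) (x : β) (l : List β) :
    pc f d (x :: l) = (if d = 0 then 1 else 0) + pc f (d - f x) l := rfl

theorem sum_pc [Fintype D] (f : β → D) (l : List β) : ∑ d, pc f d l = l.length + 1 := by
  induction l with
  | nil => simp [pc_nil]
  | cons x l ih =>
    simp only [pc_cons, Finset.sum_add_distrib, List.length_cons]
    have h1 : ∑ d, pc f (d - f x) l = ∑ d, pc f d l :=
      Equiv.sum_comp (Equiv.subRight (f x)) (fun d => pc f d l)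
    rw [h1, ih]
    simp
    omega

theorem exists_groups_of_pc (f : β → D) (l : List β) : ∀ (d : D) (n : ℕ), n < pc f d l →
    ∃ (p : List β) (gs : List (List β)) (s : List β), l = p ++ gs.flatten ++ s ∧
      (p.map f).sum = d ∧ gs.length = n ∧ ∀ g ∈ gs, g ≠ [] ∧ (g.map f).sum = 0 := by
  induction l with
  | nil =>
    intro d n h
    rw [pc_nil] at h
    split_ifs at h with hd
    · exact ⟨[], [], [], rfl, hd.symm, by simp; omega, by simp⟩
    · omega
  | cons x l ih =>
    intro d n h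
    rw [pc_cons] at h
    split_ifs at h with hd
    · rcases n with _ | n
      · exact ⟨[], [], x :: l, rfl, hd.symm, rfl, by simp⟩
      · obtain ⟨p, gs, s, h1, h2, h3, h4⟩ := ih (d - f x) n (by omega)
        refine ⟨[], (x :: p) :: gs, s, by simp [h1], hd.symm, by simp [h3], ?_⟩
        intro g hg
        rcases List.mem_cons.1 hg with rfl | hg
        · refine ⟨List.cons_ne_nil _ _, ?_⟩
          rw [List.map_cons, List.sum_cons, h2, hd]
          abel
        · exact h4 g hg
    · obtain ⟨p, gs, s, h1, h2, h3, h4⟩ := ih (d - f x) n (by omega)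
      refine ⟨x :: p, gs, s, by simp [h1], ?_, h3, h4⟩
      rw [List.map_cons, List.sum_cons, h2]
      abel

theorem exists_groups [Fintype D] (f : β → D) (l : List β) (n : ℕ)
    (h : Fintype.card D * n ≤ l.length) :
    ∃ (p : List β) (gs : List (List β)) (s : List β), l = p ++ gs.flatten ++ s ∧
      gs.length = n ∧ ∀ g ∈ gs, g ≠ [] ∧ (g.map f).sum = 0 := by
  have : ∃ d, n < pc f d l := by
    by_contra hcon
    push Not at hcon
    have h1 : ∑ d, pc f d l ≤ ∑ _d : D, n := Finset.sum_le_sum fun d _ => hcon d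
    rw [sum_pc, Finset.sum_const, Finset.card_univ, smul_eq_mul] at h1
    omega
  obtain ⟨d, hd⟩ := this
  obtain ⟨p, gs, s, h1, -, h3, h4⟩ := exists_groups_of_pc f l d n hd
  exact ⟨p, gs, s, h1, h3, h4⟩

end Pigeon

/-- a `(|D| n)`-decomposable word has `n` consecutive blocks of degree zero -/
theorem Dec.exists_zero {α D : Type*} [LinearOrder α] [AddCommGroup D] [Fintype D] (δ : α → D)
    {n : ℕ} {w : List α} (h : Dec (Fintype.card D * n) w) :
    ∃ (p : List α) (bs : List (List α)) (s : List α), Good bs ∧ bs.length = n ∧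
      (∀ b ∈ bs, (b.map δ).sum = 0) ∧ w = p ++ bs.flatten ++ s := by
  classical
  obtain ⟨p, bs, s, h1, h2, rfl⟩ := h
  obtain ⟨p', gs, s', rfl, h4, h5⟩ := exists_groups (fun b : List α => (b.map δ).sum) bs n h2.ge
  refine ⟨p ++ p'.flatten, gs.map List.flatten, s'.flatten ++ s, ?_, by simp [h4], ?_, ?_⟩
  · rw [List.append_assoc] at h1
    exact Good.merge gs s' (fun g hg => (h5 g hg).1) h1.right
  · intro b hb
    obtain ⟨g, hg, rfl⟩ := List.mem_map.1 hb
    rw [← (h5 g hg).2, List.map_flatten, List.sum_flatten, List.map_map]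
    rfl
  · rw [← List.flatten_flatten]
    simp

end Cfsg.Agent.Zel.BZ
end

-- part: Zel/BZ/Main
section
/-!
# From a symmetric identity in degree zero to an ordinary multilinear identity

Decomposable words are rewritten by lexicographically smaller words; the indecomposable words are
few, so that some multilinear polynomial vanishes for all degree patterns.
-/

set_option autoImplicit false

universe u

namespace Cfsg.Agent.Zel.BZ

open Cfsg.Agent.Zel.PI Submodule

section Rewrite

variable (F : Type*) {A α : Type*} [Field F] [Ring A] [Algebra F A] [LinearOrder α] (y : α → A)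

/-- the span of the words with given content -/
def All (m : Multiset α) : Submodule F A :=
  span F {z | ∃ u : List α, (u : Multiset α) = m ∧ z = wd y u}

/-- the span of the words with given content and first letter less than `a` -/
def Hd (a : α) (m : Multiset α) : Submodule F A :=
  span F {z | ∃ (c : α) (u : List α), c < a ∧ ((c :: u : List α) : Multiset α) = m ∧
    z = wd y (c :: u)}

/-- the span of the lexicographically smaller rearrangements of a word -/
def Low (w : List α) : Submodule F A :=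
  span F {z | ∃ (p : List α) (c a : α) (s t : List α), c < a ∧ w = p ++ a :: t ∧
    ((p ++ c :: s : List α) : Multiset α) = w ∧ z = wd y (p ++ c :: s)}

variable {F y}

omit [LinearOrder α] in
theorem wd_mem_all (u : List α) : wd y u ∈ All F y (u : Multiset α) :=
  subset_span ⟨u, rfl, rfl⟩

omit [LinearOrder α] in
theorem mul_mem_all {m m' : Multiset α} {z z' : A} (h : z ∈ All F y m) (h' : z' ∈ All F y m') :
    z * z' ∈ All F y (m + m') := by
  have : All F y m * All F y m' ≤ All F y (m + m') := by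
    unfold All
    rw [span_mul_span]
    apply span_mono
    rintro _ ⟨_, ⟨u, rfl, rfl⟩, _, ⟨v, rfl, rfl⟩, rfl⟩
    exact ⟨u ++ v, rfl, (wd_append y u v).symm⟩
  exact this (mul_mem_mul h h')

theorem mul_mem_hd {a : α} {m m' : Multiset α} {z z' : A} (h : z ∈ Hd F y a m)
    (h' : z' ∈ All F y m') : z * z' ∈ Hd F y a (m + m') := by
  have : Hd F y a m * All F y m' ≤ Hd F y a (m + m') := by
    unfold All Hd
    rw [span_mul_span]
    apply span_mono
    rintro _ ⟨_, ⟨c, u, hc, rfl, rfl⟩, _, ⟨v, rfl, rfl⟩, rfl⟩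
    exact ⟨c, u ++ v, hc, rfl, (wd_append y (c :: u) v).symm⟩
  exact this (mul_mem_mul h h')

theorem hd_le_all (a : α) (m : Multiset α) : Hd F y a m ≤ All F y m := by
  apply span_mono
  rintro _ ⟨c, u, -, rfl, rfl⟩
  exact ⟨c :: u, rfl, rfl⟩

theorem all_le_hd {a : α} {m : Multiset α} (h0 : m ≠ 0) (h : ∀ c ∈ m, c < a) :
    All F y m ≤ Hd F y a m := by
  apply span_mono
  rintro _ ⟨u, rfl, rfl⟩
  rcases u with _ | ⟨c, u⟩
  · exact absurd rfl h0
  · exact ⟨c, u, h c (by simp), rfl, rfl⟩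

theorem hd_le_low (a : α) (t : List α) : Hd F y a (a :: t : List α) ≤ Low F y (a :: t) := by
  apply span_mono
  rintro _ ⟨c, u, hc, h, rfl⟩
  exact ⟨[], c, a, u, t, hc, rfl, h, rfl⟩

theorem mul_mem_low_left (v : List α) {w : List α} {z : A} (h : z ∈ Low F y w) :
    wd y v * z ∈ Low F y (v ++ w) := by
  have : Low F y w ≤ (Low F y (v ++ w)).comap (LinearMap.mulLeft F (wd y v)) := by
    apply span_le.2
    rintro _ ⟨p, c, a, s, t, hc, rfl, h, rfl⟩
    refine subset_span ⟨v ++ p, c, a, s, t, hc, by simp, ?_, by simp⟩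
    rw [List.append_assoc, ← Multiset.coe_add, ← Multiset.coe_add v, h]
  exact this h

theorem mul_mem_low_right (v : List α) {w : List α} {z : A} (h : z ∈ Low F y w) :
    z * wd y v ∈ Low F y (w ++ v) := by
  have : Low F y w ≤ (Low F y (w ++ v)).comap (LinearMap.mulRight F (wd y v)) := by
    apply span_le.2
    rintro _ ⟨p, c, a, s, t, hc, rfl, h, rfl⟩
    refine subset_span ⟨p, c, a, s ++ v, t ++ v, hc, by simp, ?_, by simp [mul_assoc]⟩
    rw [← List.cons_append, ← List.append_assoc, ← Multiset.coe_add, ← Multiset.coe_add _ v, h]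
  exact this h

omit [LinearOrder α] in
theorem symProd_mem_all {ι : Type*} [DecidableEq ι] (B : ι → List α) (z : ι → A) :
    ∀ (k : ℕ) (S : Finset ι), S.card = k → (∀ i ∈ S, z i ∈ All F y (B i : Multiset α)) →
      symProd z k S ∈ All F y (∑ i ∈ S, (B i : Multiset α)) := by
  intro k
  induction k with
  | zero =>
    intro S hS _
    rw [Finset.card_eq_zero.1 hS, symProd_zero, Finset.sum_empty]
    exact wd_mem_all []
  | succ k ih =>
    intro S hS hz
    rw [symProd_succ]
    refine sum_mem fun j hj => ?_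
    rw [← Finset.add_sum_erase S _ hj]
    refine mul_mem_all (hz j hj) (ih _ ?_ fun i hi => hz i (Finset.mem_of_mem_erase hi))
    rw [Finset.card_erase_of_mem hj, hS]
    rfl

omit [LinearOrder α] in
theorem coe_flatten_map {ι : Type*} [DecidableEq ι] (B : ι → List α) (l : List ι) (hl : l.Nodup) :
    (((l.map B).flatten : List α) : Multiset α) = ∑ i ∈ l.toFinset, (B i : Multiset α) := by
  induction l with
  | nil => simp
  | cons i l ih =>
    have h := List.nodup_cons.1 hl
    rw [List.toFinset_cons, Finset.sum_insert (by simpa using h.1), ← ih h.2, List.map_cons,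
      List.flatten_cons, Multiset.coe_add]

theorem Good.ne_nil {bs : List (List α)} (h : Good bs) : ∀ b ∈ bs, b ≠ [] := by
  induction h with
  | nil => simp
  | cons a t bs _ _ _ ih =>
    intro b hb
    rcases List.mem_cons.1 hb with rfl | hb
    · exact List.cons_ne_nil _ _
    · exact ih b hb

theorem Good.head {bs : List (List α)} (h : Good bs) :
    ∀ b ∈ bs, ∃ a t, b = a :: t ∧ ∀ c ∈ t, c < a := by
  induction h with
  | nil => simp
  | cons a t bs h1 _ _ ih =>
    intro b hb
    rcases List.mem_cons.1 hb with rfl | hb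
    · exact ⟨a, t, rfl, h1⟩
    · exact ih b hb

theorem symProd_sub_mem_low {ι : Type*} [DecidableEq ι] (B : ι → List α) (z : ι → A)
    (hz : ∀ i a t, B i = a :: t → z i - wd y (B i) ∈ Hd F y a (B i : Multiset α))
    (hz' : ∀ i, z i ∈ All F y (B i : Multiset α)) :
    ∀ l : List ι, l.Nodup → Good (l.map B) →
      symProd z l.length l.toFinset - wd y (l.map B).flatten ∈ Low F y (l.map B).flatten := by
  intro l
  induction l with
  | nil =>
    intro _ _
    simp [symProd_zero]
  | cons i l ih =>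
    intro hl hg
    have h := List.nodup_cons.1 hl
    have hi : i ∉ l.toFinset := by simpa using h.1
    rw [List.map_cons] at hg
    generalize hB : B i = b at hg
    cases hg with
    | cons a t bs h1 h2 h3 =>
      have hlow := ih h.2 h3
      have hall : symProd z l.length l.toFinset ∈
          All F y (((l.map B).flatten : List α) : Multiset α) := by
        rw [coe_flatten_map B l h.2]
        exact symProd_mem_all B z _ _ (List.toFinset_card_of_nodup h.2) fun j _ => hz' j
      have hcoe : ((a :: (t ++ (l.map B).flatten) : List α) : Multiset α) =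
          (B i : Multiset α) + ((l.map B).flatten : List α) := by
        rw [hB, Multiset.coe_add, List.cons_append]
      rw [List.length_cons, List.toFinset_cons, symProd_succ, Finset.sum_insert hi,
        Finset.erase_insert hi, List.map_cons, List.flatten_cons, wd_append]
      have e : z i * symProd z l.length l.toFinset +
          ∑ j ∈ l.toFinset, z j * symProd z l.length ((insert i l.toFinset).erase j) -
          wd y (B i) * wd y (l.map B).flatten =
          wd y (B i) * (symProd z l.length l.toFinset - wd y (l.map B).flatten) +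
          ((z i - wd y (B i)) * symProd z l.length l.toFinset +
          ∑ j ∈ l.toFinset, z j * symProd z l.length ((insert i l.toFinset).erase j)) := by
        noncomm_ring
      rw [e]
      refine add_mem (mul_mem_low_left _ hlow) ?_
      rw [hB, List.cons_append]
      apply hd_le_low
      rw [hcoe, ← hB]
      refine add_mem (mul_mem_hd (hz i a t hB) hall) (sum_mem fun j hj => ?_)
      have hj' : j ∈ l := List.mem_toFinset.1 hj
      have hjS : j ∈ insert i l.toFinset := Finset.mem_insert_of_mem hj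
      have hsum : (B i : Multiset α) + ((l.map B).flatten : List α) =
          (B j : Multiset α) + ∑ k ∈ (insert i l.toFinset).erase j, (B k : Multiset α) := by
        rw [Finset.add_sum_erase _ (fun k => (B k : Multiset α)) hjS, Finset.sum_insert hi,
          coe_flatten_map B l h.2]
      rw [hsum]
      refine mul_mem_hd (all_le_hd ?_ ?_ (hz' j)) (symProd_mem_all B z _ _ ?_ fun k _ => hz' k)
      · rw [Ne, Multiset.coe_eq_zero]
        exact h3.ne_nil _ (List.mem_map_of_mem hj')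
      · intro c hc
        exact h2 c (List.mem_flatten.2 ⟨B j, List.mem_map_of_mem hj', hc⟩)
      · rw [Finset.card_erase_of_mem hjS, Finset.card_insert_of_notMem hi,
          List.toFinset_card_of_nodup h.2]
        rfl

variable {D : Type*} [AddCommGroup D] {M : D → Set A} {δ : α → D}

/-- the left normed commutator of a block -/
theorem exists_comm (hM : ∀ i j, ∀ a ∈ M i, ∀ b ∈ M j, a * b - b * a ∈ M (i + j)) (a : α)
    (ha : y a ∈ M (δ a)) (t : List α) : (∀ c ∈ t, c < a) → (∀ c ∈ t, y c ∈ M (δ c)) →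
    ∃ z ∈ M (((a :: t).map δ).sum), z - wd y (a :: t) ∈ Hd F y a (a :: t : List α) := by
  induction t using List.reverseRecOn with
  | nil =>
    intro _ _
    exact ⟨y a, by simpa using ha, by simp⟩
  | append_singleton t x ih =>
    intro h1 h2
    obtain ⟨z, hz1, hz2⟩ := ih (fun c hc => h1 c (List.mem_append_left _ hc))
      (fun c hc => h2 c (List.mem_append_left _ hc))
    have hx : x ∈ t ++ [x] := by simp
    refine ⟨z * y x - y x * z, ?_, ?_⟩
    · have := hM _ _ z hz1 (y x) (h2 x hx)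
      rw [← List.cons_append, List.map_append, List.sum_append]
      simpa using this
    · have hzall : z ∈ All F y (a :: t : List α) := by
        have := add_mem (hd_le_all _ _ hz2) (wd_mem_all (F := F) (y := y) (a :: t))
        rwa [sub_add_cancel] at this
      have hxall : y x ∈ All F y ([x] : List α) := by
        have := wd_mem_all (F := F) (y := y) [x]
        simpa using this
      have e : z * y x - y x * z - wd y (a :: (t ++ [x])) =
          (z - wd y (a :: t)) * y x - y x * z := by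
        rw [← List.cons_append, wd_append, wd_cons y x, wd_nil]
        noncomm_ring
      rw [e, ← List.cons_append, ← Multiset.coe_add]
      refine sub_mem (mul_mem_hd hz2 hxall) ?_
      rw [add_comm]
      refine mul_mem_hd (all_le_hd (by simp) ?_ hxall) hzall
      intro c hc
      have : c = x := by simpa using hc
      rw [this]
      exact h1 x hx

theorem wd_mem_low [Fintype D] (hM : ∀ i j, ∀ a ∈ M i, ∀ b ∈ M j, a * b - b * a ∈ M (i + j))
    {n : ℕ} (hs : ∀ z : Fin n → A, (∀ i, z i ∈ M 0) → symProd z n Finset.univ = 0)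
    {w : List α} (hw : ∀ c ∈ w, y c ∈ M (δ c)) (h : Dec (Fintype.card D * n) w) :
    wd y w ∈ Low F y w := by
  obtain ⟨p, bs, s, h1, rfl, h3, rfl⟩ := h.exists_zero δ
  have hex : ∀ i : Fin bs.length, ∃ z ∈ M 0, z ∈ All F y (bs[i] : Multiset α) ∧
      ∀ a t, bs[i] = a :: t → z - wd y bs[i] ∈ Hd F y a (bs[i] : Multiset α) := by
    intro i
    have hb : bs[i] ∈ bs := List.getElem_mem _
    obtain ⟨a, t, hat, ht⟩ := h1.head _ hb
    have hmem : ∀ c ∈ a :: t, y c ∈ M (δ c) := fun c hc => hw c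
      (List.mem_append_left _ (List.mem_append_right _ (List.mem_flatten.2 ⟨_, hb, hat ▸ hc⟩)))
    obtain ⟨z, hz1, hz2⟩ := exists_comm (F := F) hM a (hmem a (List.mem_cons_self ..)) t ht
      (fun c hc => hmem c (List.mem_cons_of_mem _ hc))
    rw [← hat, h3 _ hb] at hz1
    refine ⟨z, hz1, ?_, ?_⟩
    · have := add_mem (hd_le_all _ _ hz2) (wd_mem_all (F := F) (y := y) (a :: t))
      rwa [sub_add_cancel, ← hat] at this
    · intro a' t' h'
      rw [hat] at h'
      obtain ⟨rfl, rfl⟩ := List.cons.inj h'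
      rw [hat]
      exact hz2
  choose z hz0 hz1 hz2 using hex
  have hmap : (List.finRange bs.length).map (fun i => bs[i]) = bs := by
    apply List.ext_getElem <;> simp
  have key := symProd_sub_mem_low (F := F) (y := y) (fun i : Fin bs.length => bs[i]) z hz2 hz1
    (List.finRange bs.length) (List.nodup_finRange _) (by rw [hmap]; exact h1)
  rw [hmap, List.length_finRange, List.toFinset_finRange, hs z hz0, zero_sub, neg_mem_iff] at key
  rw [wd_append, wd_append]
  exact mul_mem_low_right _ (mul_mem_low_left _ key)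

theorem wd_mem_span_ind [Fintype D]
    (hM : ∀ i j, ∀ a ∈ M i, ∀ b ∈ M j, a * b - b * a ∈ M (i + j))
    {n : ℕ} (hs : ∀ z : Fin n → A, (∀ i, z i ∈ M 0) → symProd z n Finset.univ = 0)
    {S : Finset α} (hS : ∀ c ∈ S, y c ∈ M (δ c)) (w : List α) (hw : (w : Multiset α) = S.val) :
    wd y w ∈ span F (wd y '' (ind (Fintype.card D * n) S : Set (List α))) := by
  classical
  have hfin : {u : List α | (u : Multiset α) = S.val}.Finite := by
    refine (S.val.lists.toFinset.finite_toSet).subset fun u hu => ?_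
    rw [Finset.mem_coe, Multiset.mem_toFinset, Multiset.mem_lists_iff]
    exact hu.symm
  refine Set.WellFoundedOn.induction (r := (· < ·)) (P := fun w =>
    wd y w ∈ span F (wd y '' (ind (Fintype.card D * n) S : Set (List α)))) hfin.isWF
    (show w ∈ {u : List α | (u : Multiset α) = S.val} from hw) ?_
  intro u hu ih
  by_cases hd : Dec (Fintype.card D * n) u
  · have hu' : ∀ c ∈ u, y c ∈ M (δ c) := fun c hc => hS c (by
      rw [← Finset.mem_val, ← (show (u : Multiset α) = S.val from hu)]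
      exact hc)
    refine (span_le.2 ?_ : Low F y u ≤ _) (wd_mem_low hM hs hu' hd)
    rintro _ ⟨p, c, a, s, t, hc, rfl, h, rfl⟩
    exact ih _ (h.trans hu) (List.Lex.append_left _ (List.Lex.rel hc) p)
  · exact subset_span ⟨u, mem_ind.2 ⟨hu, hd⟩, rfl⟩

end Rewrite

theorem symProd_apply {ι κ A : Type*} [Ring A] [DecidableEq ι] (z : ι → κ → A) (τ : κ) :
    ∀ (k : ℕ) (S : Finset ι), symProd z k S τ = symProd (fun i => z i τ) k S := by
  intro k
  induction k with
  | zero => intro S; rfl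
  | succ k ih =>
    intro S
    rw [symProd_succ, symProd_succ, Finset.sum_apply]
    exact Finset.sum_congr rfl fun j _ => by rw [Pi.mul_apply, ih]

theorem wd_apply {α κ A : Type*} [Monoid A] (z : α → κ → A) (τ : κ) (w : List α) :
    wd z w τ = wd (fun i => z i τ) w := by
  induction w with
  | nil => rfl
  | cons a w ih => rw [wd_cons, wd_cons, Pi.mul_apply, ih]

/-- the theorem of Bahturin and Zaicev for the symmetric identity -/
theorem exists_identity (F : Type*) {A D : Type*} [Field F] [Ring A] [Algebra F A]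
    [AddCommGroup D] [Fintype D] (M : D → Set A)
    (hM : ∀ i j, ∀ a ∈ M i, ∀ b ∈ M j, a * b - b * a ∈ M (i + j))
    {n : ℕ} (hs : ∀ z : Fin n → A, (∀ i, z i ∈ M 0) → symProd z n Finset.univ = 0) :
    ∃ (S : Finset ℕ) (f : List ℕ → F), (∃ w ∈ perms S, f w ≠ 0) ∧
      ∀ z : ℕ → A, (∀ i, ∃ e, z i ∈ M e) → val S f z = 0 := by
  classical
  obtain ⟨N, hN⟩ := exists_cf_lt (Fintype.card D * n) (Fintype.card D)
  set k := Fintype.card D * n with hk
  set S := Finset.range N with hS
  let Z : (Fin N → D) → Type _ := fun δ => {z : ℕ → A // ∀ i : Fin N, z i ∈ M (δ i)}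
  let Y : ∀ δ : Fin N → D, ℕ → Z δ → A := fun δ i z => z.1 i
  let V : ∀ δ : Fin N → D, Submodule F (Z δ → A) := fun δ =>
    span F (wd (Y δ) '' (ind k S : Set (List ℕ)))
  have hV : ∀ δ, ∀ w ∈ perms S, wd (Y δ) w ∈ V δ := by
    intro δ w hw
    obtain ⟨h1, h2⟩ := mem_perms.1 hw
    refine wd_mem_span_ind (M := fun e => {g : Z δ → A | ∀ τ, g τ ∈ M e})
      (δ := fun i => if h : i < N then δ ⟨i, h⟩ else 0) ?_ ?_ ?_ w ?_
    · intro i j a ha b hb τ
      exact hM i j _ (ha τ) _ (hb τ)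
    · intro z hz
      funext τ
      rw [symProd_apply]
      exact hs _ fun i => hz i τ
    · intro c hc τ
      have hc' : c < N := Finset.mem_range.1 hc
      simp only [dif_pos hc']
      exact τ.2 ⟨c, hc'⟩
    · rw [← h2, List.toFinset_val, List.dedup_eq_self.2 h1]
  have hfd : ∀ δ, FiniteDimensional F (V δ) := fun δ =>
    FiniteDimensional.span_of_finite F ((ind k S).finite_toSet.image _)
  have hrk : ∀ δ, Module.finrank F (V δ) ≤ cf k N := by
    intro δ
    have h1 := finrank_span_finset_le_card (R := F) ((ind k S).image (wd (Y δ)))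
    rw [Finset.coe_image] at h1
    exact h1.trans (Finset.card_image_le.trans (card_ind_le k N S (Finset.card_range N)))
  let Φ : (perms S → F) →ₗ[F] ∀ δ, V δ := LinearMap.pi fun δ =>
    Fintype.linearCombination F fun w : perms S => (⟨wd (Y δ) w, hV δ w w.2⟩ : V δ)
  have hlt : Module.finrank F (∀ δ, V δ) < Module.finrank F (perms S → F) := by
    rw [Module.finrank_pi_fintype, Module.finrank_fintype_fun_eq_card, Fintype.card_coe,
      card_perms, Finset.card_range]
    refine lt_of_le_of_lt ?_ hN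
    refine (Finset.sum_le_sum fun δ _ => hrk δ).trans ?_
    rw [Finset.sum_const, Finset.card_univ, Fintype.card_fun, Fintype.card_fin, smul_eq_mul]
  obtain ⟨c, hc, hc0⟩ := Submodule.exists_mem_ne_zero_of_ne_bot
    (LinearMap.ker_ne_bot_of_finrank_lt (f := Φ) hlt)
  refine ⟨S, fun w => if h : w ∈ perms S then c ⟨w, h⟩ else 0, ?_, ?_⟩
  · obtain ⟨w, hw⟩ := Function.ne_iff.1 hc0
    exact ⟨w, w.2, by simpa using hw⟩
  · intro z hz
    choose e he using hz
    let δ : Fin N → D := fun i => e i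
    have h1 := congrFun (congrArg Subtype.val (congrFun (LinearMap.mem_ker.1 hc) δ))
      (⟨z, fun i => he i⟩ : Z δ)
    simp only [Φ, LinearMap.pi_apply, Fintype.linearCombination_apply, AddSubmonoidClass.coe_finsetSum,
      Finset.sum_apply, SetLike.val_smul, Pi.smul_apply, wd_apply] at h1
    change ∑ w ∈ perms S, (if h : w ∈ perms S then c ⟨w, h⟩ else 0) • wd z w = 0
    rw [← Finset.sum_coe_sort]
    refine Eq.trans (Finset.sum_congr rfl fun w _ => ?_) h1
    rw [dif_pos w.2]

theorem bzBox : BZBox.{u} := by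
  intro F A _ _ _ q n d x deg hq hs
  have : NeZero q := ⟨hq.ne'⟩
  obtain ⟨S, f, h1, h2⟩ := exists_identity F
    (fun e : ZMod q => {a : A | ∃ t : FreeMagma (Fin d), dg deg t = e ∧ a = cm x t}) (n := n)
    (by
      rintro i j _ ⟨s, rfl, rfl⟩ _ ⟨t, rfl, rfl⟩
      exact ⟨s * t, dg_mul _ _ _, (cm_mul _ _ _).symm⟩)
    (by
      intro z hz
      choose t ht1 ht2 using hz
      rw [show z = fun i => cm x (t i) from funext ht2]
      exact hs t ht1)
  exact ⟨S, f, h1, fun t => h2 _ fun i => ⟨_, t i, rfl, rfl⟩⟩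

end Cfsg.Agent.Zel.BZ
end

-- part: Zel/Grp/Final
section
/-!
# The associative theorem
-/

set_option autoImplicit false

universe u

namespace Cfsg.Agent.Zel.Grp

theorem assocThmAll : AssocThmAll.{u} :=
  assocThmAll_of_boxes Cfsg.Agent.Zel.BZ.bzBox Cfsg.Agent.Zel.PI.zBox

end Cfsg.Agent.Zel.Grp
end
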