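import Mathlib
import Cfsg.Agent.Zel.Grp.Sym
import Cfsg.Agent.Zel.Iface
set_option linter.all false

-- part: Zel/Grp/Filt
section
/-!
# The graded algebra of a filtered algebra

`Gr h` is the quotient of the Rees algebra `⨁ Φ i · X ^ i` by `⨁ Φ (i+1) · X ^ i`;
`sb h i r` is the symbol in degree `i` of `r ∈ Φ i`.
-/

set_option autoImplicit false

namespace Cfsg.Agent.Zel.Grp

open Polynomial

variable {F R : Type*} [CommRing F] [Ring R] [Algebra F R]

/-- a descending multiplicative filtration -/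
structure IsFilt (Φ : ℕ → Submodule F R) : Prop where
  top : ∀ r, r ∈ Φ 0
  anti : ∀ i, Φ (i + 1) ≤ Φ i
  mul : ∀ i j a b, a ∈ Φ i → b ∈ Φ j → a * b ∈ Φ (i + j)

variable {Φ : ℕ → Submodule F R}

theorem IsFilt.le (h : IsFilt Φ) {i j : ℕ} (hij : i ≤ j) : Φ j ≤ Φ i := by
  induction j, hij using Nat.le_induction with
  | base => exact le_rfl
  | succ j _ ih => exact (h.anti j).trans ih

theorem IsFilt.mul_left (h : IsFilt Φ) {i : ℕ} (a : R) {b : R} (hb : b ∈ Φ i) : a * b ∈ Φ i := by
  simpa using h.mul 0 i a b (h.top a) hb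

theorem IsFilt.mul_right (h : IsFilt Φ) {i : ℕ} {a : R} (ha : a ∈ Φ i) (b : R) : a * b ∈ Φ i := by
  simpa using h.mul i 0 a b ha (h.top b)

theorem IsFilt.pow (h : IsFilt Φ) {i : ℕ} {a : R} (ha : a ∈ Φ i) (n : ℕ) : a ^ n ∈ Φ (i * n) := by
  induction n with
  | zero => exact h.top _
  | succ n ih => rw [pow_succ, Nat.mul_succ]; exact h.mul _ _ _ _ ih ha

/-- the Rees algebra -/
def rees (h : IsFilt Φ) : Subalgebra F R[X] where
  carrier := {f | ∀ i, f.coeff i ∈ Φ i}
  mul_mem' := by
    intro f g hf hg i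
    rw [coeff_mul]
    refine Submodule.sum_mem _ (fun p hp => ?_)
    rw [← Finset.HasAntidiagonal.mem_antidiagonal.1 hp]
    exact h.mul _ _ _ _ (hf _) (hg _)
  add_mem' := by
    intro f g hf hg i
    rw [coeff_add]; exact add_mem (hf i) (hg i)
  algebraMap_mem' := by
    intro c i
    rw [Polynomial.algebraMap_apply, coeff_C]
    split_ifs with hi
    · rw [hi]; exact h.top _
    · exact zero_mem _

/-- the ideal of the elements of higher filtration -/
def reesId (h : IsFilt Φ) : Ideal (rees h) where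
  carrier := {f | ∀ i, (f : R[X]).coeff i ∈ Φ (i + 1)}
  add_mem' := by
    intro f g hf hg i
    rw [Subalgebra.coe_add, coeff_add]; exact add_mem (hf i) (hg i)
  zero_mem' := by intro i; simp
  smul_mem' := by
    intro f g hg i
    rw [smul_eq_mul, Subalgebra.coe_mul, coeff_mul]
    refine Submodule.sum_mem _ (fun p hp => ?_)
    rw [← Finset.HasAntidiagonal.mem_antidiagonal.1 hp, add_assoc]
    exact h.mul _ _ _ _ (f.2 _) (hg _)

instance reesId_twoSided (h : IsFilt Φ) : (reesId h).IsTwoSided where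
  mul_mem_of_left := by
    intro f g hf i
    rw [Subalgebra.coe_mul, coeff_mul]
    refine Submodule.sum_mem _ (fun p hp => ?_)
    rw [← Finset.HasAntidiagonal.mem_antidiagonal.1 hp, add_right_comm]
    exact h.mul _ _ _ _ (hf _) (g.2 _)

/-- the associated graded algebra -/
abbrev Gr (h : IsFilt Φ) : Type _ := rees h ⧸ reesId h

theorem monomial_mem_rees (h : IsFilt Φ) {i : ℕ} {r : R} (hr : r ∈ Φ i) :
    monomial i r ∈ rees h := by
  intro j
  rw [coeff_monomial]
  split_ifs with hij
  · rw [← hij]; exact hr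
  · exact zero_mem _

open Classical in
/-- the symbol -/
noncomputable def sb (h : IsFilt Φ) (i : ℕ) (r : R) : Gr h :=
  if hr : r ∈ Φ i then Ideal.Quotient.mk (reesId h) ⟨monomial i r, monomial_mem_rees h hr⟩ else 0

variable (h : IsFilt Φ)

theorem sb_def {i : ℕ} {r : R} (hr : r ∈ Φ i) :
    sb h i r = Ideal.Quotient.mk (reesId h) ⟨monomial i r, monomial_mem_rees h hr⟩ := dif_pos hr

theorem sb_mul {i j : ℕ} {a b : R} (ha : a ∈ Φ i) (hb : b ∈ Φ j) :
    sb h i a * sb h j b = sb h (i + j) (a * b) := by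
  rw [sb_def h ha, sb_def h hb, sb_def h (h.mul _ _ _ _ ha hb), ← map_mul]
  congr 1
  exact Subtype.ext (monomial_mul_monomial _ _ _ _)

theorem sb_add {i : ℕ} {a b : R} (ha : a ∈ Φ i) (hb : b ∈ Φ i) :
    sb h i (a + b) = sb h i a + sb h i b := by
  rw [sb_def h ha, sb_def h hb, sb_def h (add_mem ha hb), ← map_add]
  congr 1
  exact Subtype.ext (map_add _ _ _)

theorem sb_sub {i : ℕ} {a b : R} (ha : a ∈ Φ i) (hb : b ∈ Φ i) :
    sb h i (a - b) = sb h i a - sb h i b := by
  rw [sb_def h ha, sb_def h hb, sb_def h (sub_mem ha hb), ← map_sub]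
  congr 1
  exact Subtype.ext (map_sub _ _ _)

theorem sb_smul {i : ℕ} (c : F) {a : R} (ha : a ∈ Φ i) : sb h i (c • a) = c • sb h i a := by
  rw [sb_def h ha, sb_def h (Submodule.smul_mem _ c ha)]
  have : (⟨monomial i (c • a), monomial_mem_rees h (Submodule.smul_mem _ c ha)⟩ : rees h) =
      c • ⟨monomial i a, monomial_mem_rees h ha⟩ := Subtype.ext (smul_monomial _ _ _).symm
  rw [this]
  exact map_smul (Ideal.Quotient.mkₐ F (reesId h)) c _

theorem sb_eq_zero_iff {i : ℕ} {a : R} (ha : a ∈ Φ i) : sb h i a = 0 ↔ a ∈ Φ (i + 1) := by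
  rw [sb_def h ha, Ideal.Quotient.eq_zero_iff_mem]
  constructor
  · intro h1
    simpa using h1 i
  · intro h1 j
    change (monomial i a).coeff j ∈ _
    rw [coeff_monomial]
    split_ifs with hij
    · rw [← hij]; exact h1
    · exact zero_mem _

theorem sb_zero (i : ℕ) : sb h i 0 = 0 := (sb_eq_zero_iff h (zero_mem _)).2 (zero_mem _)

theorem sb_congr {i : ℕ} {a b : R} (ha : a ∈ Φ i) (hb : b ∈ Φ i) (hab : a - b ∈ Φ (i + 1)) :
    sb h i a = sb h i b := by
  rw [← sub_eq_zero, ← sb_sub h ha hb]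
  exact (sb_eq_zero_iff h (sub_mem ha hb)).2 hab

theorem sb_one : sb h 0 1 = 1 := by
  rw [sb_def h (h.top 1), ← map_one (Ideal.Quotient.mk (reesId h))]
  congr 1

theorem sb_pow {i : ℕ} {a : R} (ha : a ∈ Φ i) (n : ℕ) :
    sb h i a ^ n = sb h (i * n) (a ^ n) := by
  induction n with
  | zero => rw [pow_zero, pow_zero, mul_zero, sb_one]
  | succ n ih => rw [pow_succ, ih, sb_mul h (h.pow ha n) ha, pow_succ, Nat.mul_succ]

theorem sb_sum {ι : Type*} {i : ℕ} (s : Finset ι) {a : ι → R} (ha : ∀ j ∈ s, a j ∈ Φ i) :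
    sb h i (∑ j ∈ s, a j) = ∑ j ∈ s, sb h i (a j) := by
  classical
  induction s using Finset.induction_on with
  | empty => simpa using sb_zero h i
  | insert j s hj ih =>
    rw [Finset.sum_insert hj, Finset.sum_insert hj,
      sb_add h (ha j (Finset.mem_insert_self _ _))
        (Submodule.sum_mem _ (fun k hk => ha k (Finset.mem_insert_of_mem hk))),
      ih (fun k hk => ha k (Finset.mem_insert_of_mem hk))]

include h in
theorem prod_mem_filt (l : List R) (hl : ∀ a ∈ l, a ∈ Φ 1) : l.prod ∈ Φ l.length := by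
  induction l with
  | nil => exact h.top _
  | cons a l ih =>
    rw [List.prod_cons, List.length_cons, add_comm]
    exact h.mul _ _ _ _ (hl a (by simp)) (ih (fun b hb => hl b (by simp [hb])))

theorem sb_prod (l : List R) (hl : ∀ a ∈ l, a ∈ Φ 1) :
    (l.map (sb h 1)).prod = sb h l.length l.prod := by
  induction l with
  | nil => simpa using (sb_one h).symm
  | cons a l ih =>
    have h1 : ∀ b ∈ l, b ∈ Φ 1 := fun b hb => hl b (by simp [hb])
    rw [List.map_cons, List.prod_cons, ih h1, sb_mul h (hl a (by simp)) (prod_mem_filt h l h1),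
      List.prod_cons, List.length_cons, add_comm]

/-- the map induced on the Rees algebra by a filtered endomorphism -/
noncomputable def reesMap (φ : R →ₐ[F] R) (hφ : ∀ i, ∀ r ∈ Φ i, φ r ∈ Φ i) :
    rees h →ₐ[F] rees h :=
  ((Polynomial.mapAlgHom φ).comp (rees h).val).codRestrict (rees h) (fun f i => by
    simpa using hφ i _ (f.2 i))

/-- the map induced on the graded algebra by a filtered endomorphism -/
noncomputable def grMap (φ : R →ₐ[F] R) (hφ : ∀ i, ∀ r ∈ Φ i, φ r ∈ Φ i) : Gr h →ₐ[F] Gr h :=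
  Ideal.quotientMapₐ (reesId h) (reesMap h φ hφ) (fun f hf i => by
    have := hφ _ _ (hf i)
    change (Polynomial.mapAlgHom φ (f : R[X])).coeff i ∈ _
    simpa using this)

theorem grMap_sb (φ : R →ₐ[F] R) (hφ : ∀ i, ∀ r ∈ Φ i, φ r ∈ Φ i) {i : ℕ} {r : R}
    (hr : r ∈ Φ i) : grMap h φ hφ (sb h i r) = sb h i (φ r) := by
  rw [sb_def h hr, sb_def h (hφ i r hr)]
  change Ideal.Quotient.mk (reesId h) (reesMap h φ hφ _) = _
  congr 1
  apply Subtype.ext
  change Polynomial.mapAlgHom φ (monomial i r) = _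
  simp

end Cfsg.Agent.Zel.Grp
end

-- part: Zel/Grp/Lin
section
/-!
# Linearisation of the identity `(g - 1) ^ n = 0` in a filtered algebra
-/

set_option autoImplicit false

namespace Cfsg.Agent.Zel.Grp

open Cfsg.Agent.Zel

section Zeta

variable {R ι : Type*} [Ring R] [DecidableEq ι]

/-- summation over subsets -/
def zeta (c : Finset ι → R) (T : Finset ι) : R := ∑ A ∈ T.powerset, c A

/-- the covering product -/
def cover (c d : Finset ι → R) (S : Finset ι) : R :=
  ∑ p ∈ (S.powerset ×ˢ S.powerset).filter (fun p => p.1 ∪ p.2 = S), c p.1 * d p.2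

theorem zeta_cover (c d : Finset ι → R) (T : Finset ι) :
    zeta (cover c d) T = zeta c T * zeta d T := by
  unfold zeta
  rw [Finset.sum_mul_sum, ← Finset.sum_product',
    ← Finset.sum_fiberwise_of_maps_to (s := T.powerset ×ˢ T.powerset) (t := T.powerset)
      (g := fun p => p.1 ∪ p.2)]
  · refine Finset.sum_congr rfl (fun S hS => ?_)
    unfold cover
    refine Finset.sum_congr ?_ (fun _ _ => rfl)
    ext p
    simp only [Finset.mem_filter, Finset.mem_product, Finset.mem_powerset] at hS ⊢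
    constructor
    · rintro ⟨⟨h1, h2⟩, h3⟩; exact ⟨⟨h1.trans hS, h2.trans hS⟩, h3⟩
    · rintro ⟨-, h3⟩
      exact ⟨⟨h3 ▸ Finset.subset_union_left, h3 ▸ Finset.subset_union_right⟩, h3⟩
  · intro p hp
    simp only [Finset.mem_product, Finset.mem_powerset] at hp ⊢
    exact Finset.union_subset hp.1 hp.2

theorem eq_zero_of_zeta {c : Finset ι → R} (h : ∀ T, zeta c T = 0) (S : Finset ι) : c S = 0 := by
  induction S using Finset.strongInduction with
  | H S ih =>
    have h1 := h S
    unfold zeta at h1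
    rw [← Finset.add_sum_erase _ _ (Finset.mem_powerset_self S), Finset.sum_eq_zero, add_zero] at h1
    · exact h1
    · intro A hA
      simp only [Finset.mem_erase, Finset.mem_powerset] at hA
      exact ih A (Finset.ssubset_iff_subset_ne.2 ⟨hA.2, hA.1⟩)

omit [DecidableEq ι] in
theorem zeta_empty (c : Finset ι → R) : zeta c ∅ = c ∅ := by simp [zeta]

theorem zeta_single (c : Finset ι → R) (j : ι) : zeta c {j} = c ∅ + c {j} := by
  unfold zeta
  rw [show ({j} : Finset ι).powerset = {∅, {j}} from by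
    ext A; simp [Finset.subset_singleton_iff]]
  rw [Finset.sum_pair (Finset.singleton_ne_empty j).symm]

/-- the unit of the covering product -/
def dl (A : Finset ι) : R := if A = ∅ then 1 else 0

theorem zeta_dl (T : Finset ι) : zeta (dl : Finset ι → R) T = 1 := by
  simp [zeta, dl]

/-- covering powers -/
def cpow (c : Finset ι → R) : ℕ → Finset ι → R
  | 0 => dl
  | k + 1 => cover c (cpow c k)

theorem zeta_cpow (c : Finset ι → R) (k : ℕ) (T : Finset ι) :
    zeta (cpow c k) T = zeta c T ^ k := by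
  induction k with
  | zero => rw [pow_zero]; exact zeta_dl T
  | succ k ih => rw [cpow, zeta_cover, ih, pow_succ']

theorem prod_ite_not_mem (f : ι → R) (T : Finset ι) (l : List ι) (hl : ∀ j ∈ l, j ∉ T) :
    (l.map (fun j => if j ∈ T then f j else 1)).prod = 1 := by
  induction l with
  | nil => rfl
  | cons a l ih =>
    rw [List.map_cons, List.prod_cons, if_neg (hl a (by simp)),
      ih (fun j hj => hl j (by simp [hj])), one_mul]

theorem prod_ite_single (f : ι → R) (j : ι) (l : List ι) (hl : l.Nodup) (hj : j ∈ l) :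
    (l.map (fun i => if i ∈ ({j} : Finset ι) then f i else 1)).prod = f j := by
  induction l with
  | nil => simp at hj
  | cons a l ih =>
    rw [List.nodup_cons] at hl
    rw [List.map_cons, List.prod_cons]
    by_cases ha : a = j
    · subst ha
      rw [if_pos (Finset.mem_singleton_self _), prod_ite_not_mem, mul_one]
      intro i hi hi'
      rw [Finset.mem_singleton] at hi'
      exact hl.1 (hi' ▸ hi)
    · rw [if_neg (by simpa using ha), one_mul]
      exact ih hl.2 ((List.mem_cons.1 hj).resolve_left (fun h => ha h.symm))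

end Zeta

variable {F R ι : Type*} [CommRing F] [Ring R] [Algebra F R] [DecidableEq ι]
  {Φ : ℕ → Submodule F R} (h : IsFilt Φ) {w : ι → ℕ}

include h

theorem cover_mem {c d : Finset ι → R} (hc : ∀ A, c A ∈ Φ (∑ j ∈ A, w j))
    (hd : ∀ A, d A ∈ Φ (∑ j ∈ A, w j)) (S : Finset ι) : cover c d S ∈ Φ (∑ j ∈ S, w j) := by
  refine Submodule.sum_mem _ (fun p hp => ?_)
  have h1 := (Finset.mem_filter.1 hp).2
  refine h.le ?_ (h.mul _ _ _ _ (hc p.1) (hd p.2))
  rw [← h1, ← Finset.sum_union_inter]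
  omega

theorem dl_mem (A : Finset ι) : (dl A : R) ∈ Φ (∑ j ∈ A, w j) := by
  unfold dl
  split_ifs with hA
  · rw [hA]; exact h.top _
  · exact zero_mem _

theorem cpow_mem {c : Finset ι → R} (hc : ∀ A, c A ∈ Φ (∑ j ∈ A, w j)) (k : ℕ) (S : Finset ι) :
    cpow c k S ∈ Φ (∑ j ∈ S, w j) := by
  induction k generalizing S with
  | zero => exact dl_mem h S
  | succ k ih => exact cover_mem h hc ih S

theorem exists_coeff_prod {y : ι → R} (hy : ∀ j, y j ∈ Φ (w j)) (l : List ι) :
    ∃ c : Finset ι → R, (∀ A, c A ∈ Φ (∑ j ∈ A, w j)) ∧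
      ∀ T, zeta c T = (l.map (fun j => if j ∈ T then 1 + y j else 1)).prod := by
  induction l with
  | nil => exact ⟨dl, dl_mem h, fun T => zeta_dl T⟩
  | cons a l ih =>
    obtain ⟨d, hd1, hd2⟩ := ih
    refine ⟨cover (fun A => dl A + if A = {a} then y a else 0) d, cover_mem h (fun A => ?_) hd1,
      fun T => ?_⟩
    · refine add_mem (dl_mem h A) ?_
      split_ifs with hA
      · rw [hA, Finset.sum_singleton]; exact hy a
      · exact zero_mem _
    · rw [zeta_cover, hd2, List.map_cons, List.prod_cons]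
      congr 1
      have := zeta_dl (R := R) T
      unfold zeta at this ⊢
      rw [Finset.sum_add_distrib, this, Finset.sum_ite_eq']
      simp only [Finset.mem_powerset, Finset.singleton_subset_iff]
      split_ifs <;> simp

theorem cpow_lead (hw : ∀ j, 1 ≤ w j) {c : Finset ι → R} (hc : ∀ A, c A ∈ Φ (∑ j ∈ A, w j))
    (hc0 : c ∅ = 0) (k : ℕ) (S : Finset ι) :
    (S.card < k → cpow c k S ∈ Φ (∑ j ∈ S, w j + 1)) ∧
      (S.card = k → cpow c k S - symProd (fun j => c {j}) k S ∈ Φ (∑ j ∈ S, w j + 1)) := by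
  induction k generalizing S with
  | zero =>
    refine ⟨fun hk => absurd hk (Nat.not_lt_zero _), fun hk => ?_⟩
    rw [Finset.card_eq_zero.1 hk]
    simp [cpow, dl, symProd]
  | succ k ih =>
    -- the terms that do not contribute
    have hterm : ∀ A B : Finset ι, A ∪ B = S → S.card ≤ k + 1 →
        (A = ∅ ∨ ¬ Disjoint A B ∨ B.card < k) →
        c A * cpow c k B ∈ Φ (∑ j ∈ S, w j + 1) := by
      intro A B hAB hS hcase
      have hsum : ∑ j ∈ S, w j + ∑ j ∈ A ∩ B, w j = ∑ j ∈ A, w j + ∑ j ∈ B, w j := by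
        rw [← hAB, Finset.sum_union_inter]
      rcases hcase with h1 | h1 | h1
      · rw [h1, hc0, zero_mul]; exact zero_mem _
      · obtain ⟨j, hj1, hj2⟩ := Finset.not_disjoint_iff.1 h1
        have h2 : w j ≤ ∑ j ∈ A ∩ B, w j :=
          Finset.single_le_sum (f := w) (fun _ _ => Nat.zero_le _) (Finset.mem_inter.2 ⟨hj1, hj2⟩)
        have := hw j
        exact h.le (by omega) (h.mul _ _ _ _ (hc A) (cpow_mem h hc k B))
      · exact h.le (by omega) (h.mul _ _ _ _ (hc A) ((ih B).1 h1))
    constructor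
    · intro hS
      refine Submodule.sum_mem _ (fun p hp => ?_)
      have h1 := (Finset.mem_filter.1 hp).2
      refine hterm _ _ h1 hS.le ?_
      by_contra hn
      simp only [not_or, not_not, not_lt] at hn
      have h2 := Finset.card_union_of_disjoint hn.2.1
      have h3 := Finset.card_pos.2 (Finset.nonempty_iff_ne_empty.2 hn.1)
      rw [h1] at h2
      omega
    · intro hS
      let P := (S.powerset ×ˢ S.powerset).filter (fun p => p.1 ∪ p.2 = S)
      let e : ι ↪ Finset ι × Finset ι :=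
        ⟨fun j => ({j}, S.erase j), fun i j hij => by simpa using congrArg Prod.fst hij⟩
      have hsub : S.map e ⊆ P := by
        intro p hp
        obtain ⟨j, hj, rfl⟩ := Finset.mem_map.1 hp
        change (({j}, S.erase j) : Finset ι × Finset ι) ∈ P
        simp only [P, Finset.mem_filter, Finset.mem_product, Finset.mem_powerset,
          Finset.singleton_subset_iff]
        exact ⟨⟨hj, Finset.erase_subset _ _⟩, by
          rw [← Finset.insert_eq, Finset.insert_erase hj]⟩
      have hsplit : cpow c (k + 1) S = ∑ p ∈ P \ S.map e, c p.1 * cpow c k p.2 +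
          ∑ j ∈ S, c {j} * cpow c k (S.erase j) := by
        rw [cpow, cover, ← Finset.sum_sdiff hsub, Finset.sum_map]
        rfl
      rw [hsplit, symProd_succ, add_sub_assoc, ← Finset.sum_sub_distrib]
      refine add_mem (Submodule.sum_mem _ (fun p hp => ?_)) (Submodule.sum_mem _ (fun j hj => ?_))
      · obtain ⟨hp1, hp2⟩ := Finset.mem_sdiff.1 hp
        have h1 := (Finset.mem_filter.1 hp1).2
        refine hterm _ _ h1 hS.le ?_
        by_contra hn
        simp only [not_or, not_not, not_lt] at hn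
        have h2 := Finset.card_union_of_disjoint hn.2.1
        have h3 := Finset.card_pos.2 (Finset.nonempty_iff_ne_empty.2 hn.1)
        rw [h1] at h2
        obtain ⟨j, hj⟩ := Finset.card_eq_one.1 (show p.1.card = 1 by omega)
        apply hp2
        have hjS : j ∈ S := by rw [← h1, hj]; simp
        refine Finset.mem_map.2 ⟨j, hjS, Prod.ext hj.symm ?_⟩
        change S.erase j = p.2
        have h4 := hn.2.1
        rw [hj, Finset.disjoint_singleton_left] at h4
        rw [← h1, hj, ← Finset.insert_eq, Finset.erase_insert h4]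
      · rw [← mul_sub]
        have h1 := (ih (S.erase j)).2 (by rw [Finset.card_erase_of_mem hj, hS]; rfl)
        have h2 := hc {j}
        rw [Finset.sum_singleton] at h2
        have h3 := h.mul _ _ _ _ h2 h1
        rwa [← add_assoc, Finset.add_sum_erase _ _ hj] at h3

theorem symProd_mem {y : ι → R} (hy : ∀ j, y j ∈ Φ (w j)) (k : ℕ) (S : Finset ι)
    (hS : S.card = k) : symProd y k S ∈ Φ (∑ j ∈ S, w j) ∧
      symProd (fun j => sb h (w j) (y j)) k S = sb h (∑ j ∈ S, w j) (symProd y k S) := by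
  induction k generalizing S with
  | zero =>
    rw [Finset.card_eq_zero.1 hS]
    exact ⟨h.top _, (sb_one h).symm⟩
  | succ k ih =>
    have h1 : ∀ j ∈ S, (S.erase j).card = k := fun j hj => by
      rw [Finset.card_erase_of_mem hj, hS]; rfl
    have h2 : ∀ j ∈ S, y j * symProd y k (S.erase j) ∈ Φ (∑ j ∈ S, w j) := fun j hj => by
      have := h.mul _ _ _ _ (hy j) (ih _ (h1 j hj)).1
      rwa [Finset.add_sum_erase _ _ hj] at this
    rw [symProd_succ, symProd_succ]
    refine ⟨Submodule.sum_mem _ h2, ?_⟩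
    rw [sb_sum h S h2]
    refine Finset.sum_congr rfl (fun j hj => ?_)
    rw [(ih _ (h1 j hj)).2, sb_mul h (hy j) (ih _ (h1 j hj)).1, Finset.add_sum_erase _ _ hj]

/-- **Linearisation.**  If all products `g` of the `1 + y j` satisfy `(g - 1) ^ n = 0`, then the
symbols of the `y j` satisfy the linearised identity. -/
theorem symProd_sb_eq_zero [Fintype ι] (hw : ∀ j, 1 ≤ w j) {y : ι → R} (hy : ∀ j, y j ∈ Φ (w j))
    {n : ℕ} (hn : ∀ (l : List ι) (T : Finset ι),
      ((l.map (fun j => if j ∈ T then 1 + y j else 1)).prod - 1) ^ n = 0)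
    (S : Finset ι) (hS : S.card = n) : symProd (fun j => sb h (w j) (y j)) n S = 0 := by
  obtain ⟨d, hd1, hd2⟩ := exists_coeff_prod h hy (Finset.univ : Finset ι).toList
  let c : Finset ι → R := fun A => d A - dl A
  have hc : ∀ A, c A ∈ Φ (∑ j ∈ A, w j) := fun A => sub_mem (hd1 A) (dl_mem h A)
  have hz : ∀ T, zeta c T = zeta d T - 1 := fun T => by
    rw [← zeta_dl (R := R) T]
    simp only [zeta, c, Finset.sum_sub_distrib]
  have hc0 : c ∅ = 0 := by
    rw [← zeta_empty c, hz, hd2, prod_ite_not_mem _ _ _ (by simp), sub_self]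
  have hc1 : ∀ j, c {j} = y j := fun j => by
    have h1 := zeta_single c j
    rw [hc0, zero_add, hz, hd2,
      prod_ite_single _ j _ (Finset.nodup_toList _) (by simp)] at h1
    rw [← h1]; abel
  have h0 : cpow c n S = 0 :=
    eq_zero_of_zeta (fun T => by rw [zeta_cpow, hz, hd2]; exact hn _ T) S
  have h1 := (cpow_lead h hw hc hc0 n S).2 hS
  rw [h0, zero_sub, neg_mem_iff] at h1
  simp only [hc1] at h1
  rw [(symProd_mem h hy n S hS).2]
  exact (sb_eq_zero_iff h (symProd_mem h hy n S hS).1).2 h1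

end Cfsg.Agent.Zel.Grp
end

-- part: Zel/Grp/GrpAlg
section
/-!
# The augmentation filtration and the dimension subgroups
-/

set_option autoImplicit false

namespace Cfsg.Agent.Zel.Grp

open Cfsg.Agent.Zel

/-- a finite `p`-group acting on a non-zero abelian group of exponent `p` fixes a non-zero element -/
theorem exists_fixed_ne_zero {p : ℕ} [Fact p.Prime] {H W : Type*} [Group H] [Finite H]
    (hH : IsPGroup p H) [AddCommGroup W] (σ : H →* AddMonoid.End W) (hp : ∀ w : W, p • w = 0)
    {w0 : W} (hw0 : w0 ≠ 0) : ∃ w : W, w ≠ 0 ∧ ∀ h, σ h w = w := by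
  let U : AddSubgroup W := AddSubgroup.closure (Set.range (fun h => σ h w0))
  have hU : ∀ h, ∀ w ∈ U, σ h w ∈ U := by
    intro h w hw
    induction hw using AddSubgroup.closure_induction with
    | mem w hw =>
      obtain ⟨g, rfl⟩ := hw
      exact AddSubgroup.subset_closure ⟨h * g, by simp⟩
    | zero => rw [map_zero]; exact zero_mem _
    | add a b _ _ ha hb => rw [map_add]; exact add_mem ha hb
    | neg a _ ha => rw [map_neg]; exact neg_mem ha
  have hfg : AddGroup.FG U := AddGroup.closure_finite_fg _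
  have hfin : Finite U := AddCommGroup.finite_of_fg_isAddTorsion U (fun w =>
    isOfFinAddOrder_iff_nsmul_eq_zero.2 ⟨p, (Fact.out : p.Prime).pos, Subtype.ext (hp w)⟩)
  let _ : MulAction H U :=
    { smul := fun h w => ⟨σ h w, hU h w w.2⟩
      one_smul := fun w => Subtype.ext (by change σ 1 w = w; simp)
      mul_smul := fun g h w => Subtype.ext (by change σ (g * h) w = σ g (σ h w); simp) }
  have hw0U : w0 ∈ U := AddSubgroup.subset_closure ⟨1, by simp⟩
  have hord : addOrderOf (⟨w0, hw0U⟩ : U) = p :=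
    addOrderOf_eq_prime (Subtype.ext (hp w0)) (fun h => hw0 (congrArg Subtype.val h))
  have hdvd : p ∣ Nat.card U := hord ▸ addOrderOf_dvd_natCard _
  obtain ⟨b, hb1, hb2⟩ := hH.exists_fixed_point_of_prime_dvd_card_of_fixed_point U hdvd
    (a := 0) (fun h => Subtype.ext (by change σ h 0 = 0; simp))
  exact ⟨b, fun h => hb2 (Subtype.ext h.symm), fun h => congrArg Subtype.val (hb1 h)⟩

variable (F : Type*) {R H : Type*} [Field F] [Ring R] [Algebra F R] [Group H] (ρ : H →* R)

/-- the span of the elements `h - 1` -/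
def augJ : Submodule F R := Submodule.span F (Set.range (fun h => ρ h - 1))

/-- the augmentation filtration -/
def augF : ℕ → Submodule F R
  | 0 => ⊤
  | i + 1 => augJ F ρ * augF i

variable {F ρ}

theorem sub_one_mem_augJ (h : H) : ρ h - 1 ∈ augJ F ρ := Submodule.subset_span ⟨h, rfl⟩

theorem top_mul_augJ (hs : Submodule.span F (Set.range ρ) = ⊤) :
    (⊤ : Submodule F R) * augJ F ρ ≤ augJ F ρ := by
  conv_lhs => rw [← hs, augJ, Submodule.span_mul_span]
  rw [Submodule.span_le]
  rintro _ ⟨_, ⟨g, rfl⟩, _, ⟨h, rfl⟩, rfl⟩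
  have : ρ g * (ρ h - 1) = (ρ (g * h) - 1) - (ρ g - 1) := by rw [map_mul]; noncomm_ring
  change ρ g * (ρ h - 1) ∈ augJ F ρ
  rw [this]
  exact sub_mem (sub_one_mem_augJ _) (sub_one_mem_augJ _)

theorem isFilt_augF (hs : Submodule.span F (Set.range ρ) = ⊤) : IsFilt (augF F ρ) where
  top := fun _ => trivial
  anti := by
    intro i
    induction i with
    | zero => exact le_top
    | succ i ih => exact mul_le_mul' le_rfl ih
  mul := by
    have h : ∀ i j, augF F ρ i * augF F ρ j ≤ augF F ρ (i + j) := by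
      intro i j
      induction i with
      | zero =>
        cases j with
        | zero => exact le_top
        | succ j =>
          rw [zero_add, augF, augF, ← mul_assoc]
          exact mul_le_mul' (top_mul_augJ hs) le_rfl
      | succ i ih =>
        rw [show i + 1 + j = (i + j) + 1 by omega, augF, augF, mul_assoc]
        exact mul_le_mul' le_rfl ih
    exact fun i j a b ha hb => h i j (Submodule.mul_mem_mul ha hb)

theorem sub_one_mem_augF (h : H) : ρ h - 1 ∈ augF F ρ 1 := by
  have := Submodule.mul_mem_mul (sub_one_mem_augJ (F := F) (ρ := ρ) h)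
    (Submodule.mem_top (R := F) (x := (1 : R)))
  rwa [mul_one] at this

/-- the filtration of a finite `p`-group does not stabilise before it reaches zero -/
theorem augF_eq_bot {p : ℕ} [Fact p.Prime] [CharP F p] [Finite H] (hH : IsPGroup p H)
    (hs : Submodule.span F (Set.range ρ) = ⊤) {m : ℕ} (hm : augF F ρ m ≤ augF F ρ (m + 1)) :
    augF F ρ m = ⊥ := by
  by_contra hne
  let M := augF F ρ m
  have hM : ∀ g : H, ∀ v ∈ M, LinearMap.mulLeft F (ρ g) v ∈ M :=
    fun g v hv => (isFilt_augF hs).mul_left _ hv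
  let τ : H → M →ₗ[F] M := fun g => (LinearMap.mulLeft F (ρ g)).restrict (hM g)
  let σ : H →* AddMonoid.End (Module.Dual F M) :=
    { toFun := fun g => (LinearMap.dualMap (τ g⁻¹)).toAddMonoidHom
      map_one' := by
        ext l v
        change l (τ 1⁻¹ v) = l v
        congr 1
        apply Subtype.ext
        simp [τ]
      map_mul' := by
        intro g h
        ext l v
        change l (τ (g * h)⁻¹ v) = l (τ h⁻¹ (τ g⁻¹ v))
        congr 1
        apply Subtype.ext
        simp [τ] }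
  have hnt : Nontrivial M := Submodule.nontrivial_iff_ne_bot.2 hne
  obtain ⟨l0, hl0⟩ := exists_ne (0 : Module.Dual F M)
  obtain ⟨l, hl1, hl2⟩ := exists_fixed_ne_zero hH σ (fun w => by
    rw [← Nat.cast_smul_eq_nsmul F, CharP.cast_eq_zero, zero_smul]) hl0
  apply hl1
  have hkey : ∀ v ∈ augJ F ρ * M, ∃ hv : v ∈ M, l ⟨v, hv⟩ = 0 := by
    intro v hv
    refine Submodule.mul_induction_on hv ?_ ?_
    · intro a ha b hb
      induction ha using Submodule.span_induction with
      | mem a ha =>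
        obtain ⟨g, rfl⟩ := ha
        have h1 : l (τ g ⟨b, hb⟩) = l ⟨b, hb⟩ := by
          have := LinearMap.congr_fun (hl2 g⁻¹) ⟨b, hb⟩
          change l (τ g⁻¹⁻¹ ⟨b, hb⟩) = _ at this
          rwa [inv_inv] at this
        refine ⟨(isFilt_augF hs).mul_left _ hb, ?_⟩
        rw [← sub_eq_zero, ← map_sub] at h1
        rw [← h1]
        congr 1
        apply Subtype.ext
        simp [τ, sub_mul]
      | zero => exact ⟨by rw [zero_mul]; exact zero_mem _, by simp [← ZeroMemClass.zero_def]⟩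
      | add a a' _ _ ha ha' =>
        obtain ⟨h1, h2⟩ := ha
        obtain ⟨h3, h4⟩ := ha'
        refine ⟨(isFilt_augF hs).mul_left _ hb, ?_⟩
        have : l (⟨a * b, h1⟩ + ⟨a' * b, h3⟩) = 0 := by rw [map_add, h2, h4, add_zero]
        rw [← this]
        congr 1
        exact Subtype.ext (add_mul _ _ _)
      | smul c a _ ha =>
        obtain ⟨h1, h2⟩ := ha
        refine ⟨(isFilt_augF hs).mul_left _ hb, ?_⟩
        have : l (c • ⟨a * b, h1⟩) = 0 := by rw [map_smul, h2, smul_zero]
        rw [← this]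
        congr 1
        exact Subtype.ext (smul_mul_assoc _ _ _)
    · rintro a b ⟨h1, h2⟩ ⟨h3, h4⟩
      refine ⟨add_mem h1 h3, ?_⟩
      have : l (⟨a, h1⟩ + ⟨b, h3⟩) = 0 := by rw [map_add, h2, h4, add_zero]
      exact this
  ext v
  obtain ⟨_, h⟩ := hkey v (hm v.2)
  exact h

/-- the dimension subgroups -/
def dimSub (hs : Submodule.span F (Set.range ρ) = ⊤) (i : ℕ) : Subgroup H where
  carrier := {h | ρ h - 1 ∈ augF F ρ i}
  mul_mem' := by
    intro g h hg hh
    have : ρ (g * h) - 1 = ρ g * (ρ h - 1) + (ρ g - 1) := by rw [map_mul]; noncomm_ring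
    change ρ (g * h) - 1 ∈ augF F ρ i
    rw [this]
    exact add_mem ((isFilt_augF hs).mul_left _ hh) hg
  one_mem' := by change ρ 1 - 1 ∈ augF F ρ i; simp
  inv_mem' := by
    intro g hg
    have : ρ g⁻¹ - 1 = - (ρ g⁻¹ * (ρ g - 1)) := by
      rw [mul_sub, ← map_mul, inv_mul_cancel, map_one]; noncomm_ring
    change ρ g⁻¹ - 1 ∈ augF F ρ i
    rw [this]
    exact neg_mem ((isFilt_augF hs).mul_left _ hg)

variable (hs : Submodule.span F (Set.range ρ) = ⊤)

theorem mem_dimSub {i : ℕ} {h : H} : h ∈ dimSub hs i ↔ ρ h - 1 ∈ augF F ρ i := Iff.rfl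

theorem mem_dimSub_one (h : H) : h ∈ dimSub hs 1 := sub_one_mem_augF h

theorem dimSub_anti (i : ℕ) : dimSub hs (i + 1) ≤ dimSub hs i :=
  fun _ hg => (isFilt_augF hs).anti i hg

/-- the symbol of a group element -/
noncomputable def xi (i : ℕ) (g : H) : Gr (isFilt_augF hs) := sb (isFilt_augF hs) i (ρ g - 1)

theorem xi_eq_zero_iff {i : ℕ} {g : H} (hg : g ∈ dimSub hs i) :
    xi hs i g = 0 ↔ g ∈ dimSub hs (i + 1) := sb_eq_zero_iff _ hg

theorem xi_one (i : ℕ) : xi hs i 1 = 0 := by simp [xi, sb_zero]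

theorem xi_mul {i : ℕ} (hi : 1 ≤ i) {g h : H} (hg : g ∈ dimSub hs i) (hh : h ∈ dimSub hs i) :
    xi hs i (g * h) = xi hs i g + xi hs i h := by
  unfold xi
  rw [← sb_add _ hg hh]
  refine sb_congr _ (mul_mem hg hh) (add_mem hg hh) ?_
  have : ρ (g * h) - 1 - (ρ g - 1 + (ρ h - 1)) = (ρ g - 1) * (ρ h - 1) := by
    rw [map_mul]; noncomm_ring
  rw [this]
  exact (isFilt_augF hs).le (by omega) ((isFilt_augF hs).mul _ _ _ _ hg hh)

theorem xi_pow {i : ℕ} (hi : 1 ≤ i) {g : H} (hg : g ∈ dimSub hs i) (n : ℕ) :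
    xi hs i (g ^ n) = n • xi hs i g := by
  induction n with
  | zero => simp [xi_one]
  | succ n ih => rw [pow_succ, xi_mul hs hi (pow_mem hg n) hg, ih, succ_nsmul]

theorem xi_inv {i : ℕ} (hi : 1 ≤ i) {g : H} (hg : g ∈ dimSub hs i) :
    xi hs i g⁻¹ = - xi hs i g := by
  rw [eq_neg_iff_add_eq_zero, ← xi_mul hs hi (inv_mem hg) hg, inv_mul_cancel, xi_one]

theorem comm_sub_one (g h : H) : ρ (g * h * g⁻¹ * h⁻¹) - 1 =
    ((ρ g - 1) * (ρ h - 1) - (ρ h - 1) * (ρ g - 1)) * ρ (g⁻¹ * h⁻¹) := by
  have h1 : ρ h * ρ g * ρ (g⁻¹ * h⁻¹) = 1 := by rw [← map_mul, ← map_mul]; simp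
  have h2 : (ρ g - 1) * (ρ h - 1) - (ρ h - 1) * (ρ g - 1) = ρ g * ρ h - ρ h * ρ g := by
    noncomm_ring
  rw [h2, sub_mul, h1, ← map_mul, ← map_mul, mul_assoc (g * h)]

theorem lie_mem_augF {i j : ℕ} {g h : H} (hg : g ∈ dimSub hs i) (hh : h ∈ dimSub hs j) :
    (ρ g - 1) * (ρ h - 1) - (ρ h - 1) * (ρ g - 1) ∈ augF F ρ (i + j) :=
  sub_mem ((isFilt_augF hs).mul _ _ _ _ hg hh)
    (add_comm i j ▸ (isFilt_augF hs).mul _ _ _ _ hh hg)

theorem comm_mem_dimSub {i j : ℕ} {g h : H} (hg : g ∈ dimSub hs i) (hh : h ∈ dimSub hs j) :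
    g * h * g⁻¹ * h⁻¹ ∈ dimSub hs (i + j) := by
  rw [mem_dimSub, comm_sub_one]
  exact (isFilt_augF hs).mul_right (lie_mem_augF hs hg hh) _

theorem xi_comm {i j : ℕ} {g h : H} (hg : g ∈ dimSub hs i) (hh : h ∈ dimSub hs j) :
    xi hs i g * xi hs j h - xi hs j h * xi hs i g = xi hs (i + j) (g * h * g⁻¹ * h⁻¹) := by
  unfold xi
  rw [sb_mul _ hg hh, sb_mul _ hh hg, add_comm j i,
    ← sb_sub _ ((isFilt_augF hs).mul _ _ _ _ hg hh)
      (add_comm i j ▸ (isFilt_augF hs).mul _ _ _ _ hh hg)]
  refine sb_congr _ (lie_mem_augF hs hg hh) (comm_mem_dimSub hs hg hh) ?_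
  rw [comm_sub_one]
  have : ∀ a u : R, a - a * u = - (a * (u - 1)) := fun a u => by noncomm_ring
  rw [this]
  exact neg_mem ((isFilt_augF hs).mul _ _ _ _ (lie_mem_augF hs hg hh) (sub_one_mem_augF _))

theorem sub_one_pow_eq_zero {p k : ℕ} [Fact p.Prime] [CharP R p] {g : H} (hg : g ^ p ^ k = 1) :
    (ρ g - 1) ^ p ^ k = 0 := by
  rw [sub_pow_char_pow_of_commute _ _ (Commute.one_right _), ← map_pow, hg, map_one, one_pow,
    sub_self]

theorem xi_pow_eq_zero {p k : ℕ} [Fact p.Prime] [CharP R p] {i : ℕ} {g : H}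
    (hg : g ∈ dimSub hs i) (h1 : g ^ p ^ k = 1) : xi hs i g ^ p ^ k = 0 := by
  unfold xi
  rw [sb_pow _ hg, sub_one_pow_eq_zero h1, sb_zero]

/-- the linearised identity for the symbols of the elements of a subgroup of exponent `p ^ k` -/
theorem symProd_xi_eq_zero {p k : ℕ} [Fact p.Prime] [CharP R p] (Q : Subgroup H)
    (hQ : ∀ g ∈ Q, g ^ p ^ k = 1) {ι : Type*} [Fintype ι] [DecidableEq ι] (w : ι → ℕ)
    (hw : ∀ j, 1 ≤ w j) (g : ι → H) (hg : ∀ j, g j ∈ dimSub hs (w j)) (hgQ : ∀ j, g j ∈ Q)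
    (S : Finset ι) (hS : S.card = p ^ k) :
    symProd (fun j => xi hs (w j) (g j)) (p ^ k) S = 0 := by
  refine symProd_sb_eq_zero (isFilt_augF hs) hw (y := fun j => ρ (g j) - 1) hg (fun l T => ?_) S hS
  have h1 : (l.map (fun j => if j ∈ T then 1 + (ρ (g j) - 1) else 1)).prod =
      ρ (l.map (fun j => if j ∈ T then g j else 1)).prod := by
    rw [map_list_prod, List.map_map]
    congr 1
    refine List.map_congr_left (fun j _ => ?_)
    simp only [Function.comp]
    split_ifs <;> simp
  rw [h1]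
  refine sub_one_pow_eq_zero (hQ _ (Q.list_prod_mem (fun a ha => ?_)))
  obtain ⟨j, -, rfl⟩ := List.mem_map.1 ha
  split_ifs
  · exact hgQ j
  · exact one_mem _

/-- an algebra endomorphism normalising the group preserves the filtration -/
theorem map_mem_augF (φ : R →ₐ[F] R) (α : H → H) (hφ : ∀ h, φ (ρ h) = ρ (α h)) (i : ℕ) :
    ∀ r ∈ augF F ρ i, φ r ∈ augF F ρ i := by
  induction i with
  | zero => exact fun _ _ => trivial
  | succ i ih =>
    intro r hr
    refine Submodule.mul_induction_on hr ?_ ?_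
    · intro a ha b hb
      rw [map_mul]
      refine Submodule.mul_mem_mul ?_ (ih b hb)
      induction ha using Submodule.span_induction with
      | mem a ha =>
        obtain ⟨g, rfl⟩ := ha
        rw [map_sub, map_one, hφ]; exact sub_one_mem_augJ _
      | zero => rw [map_zero]; exact zero_mem _
      | add a a' _ _ ha ha' => rw [map_add]; exact add_mem ha ha'
      | smul c a _ ha => rw [map_smul]; exact Submodule.smul_mem _ _ ha
    · intro a b ha hb
      rw [map_add]; exact add_mem ha hb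

end Cfsg.Agent.Zel.Grp
end

-- part: Zel/Grp/Span
section
/-!
# Passing from a set to its span
-/

set_option autoImplicit false

namespace Cfsg.Agent.Zel.Grp

open Cfsg.Agent.Zel

variable {F A ι : Type*} [CommRing F] [Ring A] [Algebra F A] [DecidableEq ι]

theorem symProd_update_of_not_mem (y : ι → A) {j : ι} (a : A) (k : ℕ) {S : Finset ι}
    (hj : j ∉ S) : symProd (Function.update y j a) k S = symProd y k S :=
  symProd_congr (fun i hi => Function.update_of_ne (fun h : i = j => hj (h ▸ hi)) _ _)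

theorem symProd_update_lin (y : ι → A) (j : ι) (c : F) (a b : A) (k : ℕ) (S : Finset ι)
    (hj : j ∈ S) (hS : S.card = k) :
    symProd (Function.update y j (c • a + b)) k S =
      c • symProd (Function.update y j a) k S + symProd (Function.update y j b) k S := by
  induction k generalizing S with
  | zero => rw [Finset.card_eq_zero.1 hS] at hj; simp at hj
  | succ k ih =>
    rw [symProd_succ, symProd_succ, symProd_succ, Finset.smul_sum, ← Finset.sum_add_distrib]
    refine Finset.sum_congr rfl (fun i hi => ?_)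
    by_cases hij : i = j
    · subst hij
      simp only [Function.update_self,
        symProd_update_of_not_mem y _ k (Finset.notMem_erase i S), add_mul, smul_mul_assoc]
    · rw [ih _ (Finset.mem_erase.2 ⟨fun h => hij h.symm, hj⟩)
        (by rw [Finset.card_erase_of_mem hi, hS]; rfl)]
      simp only [Function.update_of_ne hij, mul_add, mul_smul_comm]

/-- the linearised identity passes to the span -/
theorem symProd_span_eq_zero {X : Set A} {k : ℕ} {S : Finset ι} (hS : S.card = k)
    (h : ∀ y : ι → A, (∀ j, y j ∈ X) → symProd y k S = 0) (x0 : A) (hx0 : x0 ∈ X) (y : ι → A)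
    (hy : ∀ j ∈ S, y j ∈ Submodule.span F X) : symProd y k S = 0 := by
  have key : ∀ T : Finset ι, T ⊆ S → ∀ y : ι → A, (∀ j ∈ T, y j ∈ Submodule.span F X) →
      (∀ j, j ∉ T → y j ∈ X) → symProd y k S = 0 := by
    intro T
    induction T using Finset.induction_on with
    | empty => exact fun _ y _ h2 => h y (fun j => h2 j (Finset.notMem_empty j))
    | insert j T hj ih =>
      intro hT y h1 h2
      have hjS : j ∈ S := hT (Finset.mem_insert_self _ _)
      have h3 : ∀ a ∈ Submodule.span F X, symProd (Function.update y j a) k S = 0 := by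
        intro a ha
        induction ha using Submodule.span_induction with
        | mem a ha =>
          refine ih ((Finset.subset_insert _ _).trans hT) _ (fun i hi => ?_) (fun i hi => ?_)
          · rw [Function.update_of_ne (fun h : i = j => hj (h ▸ hi))]
            exact h1 i (Finset.mem_insert_of_mem hi)
          · by_cases hij : i = j
            · rw [hij, Function.update_self]; exact ha
            · rw [Function.update_of_ne hij]
              exact h2 i (by simp [hij, hi])
        | zero =>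
          have := symProd_update_lin y j (1 : F) 0 0 k S hjS hS
          simpa using this
        | add a b _ _ ha hb =>
          have := symProd_update_lin y j (1 : F) a b k S hjS hS
          rwa [one_smul, ha, hb, smul_zero, add_zero] at this
        | smul c a _ ha =>
          have h0 := symProd_update_lin y j (1 : F) 0 0 k S hjS hS
          have := symProd_update_lin y j c a 0 k S hjS hS
          rw [add_zero, ha, smul_zero, zero_add] at this
          rw [this]
          simpa using h0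
      have := h3 (y j) (h1 j (Finset.mem_insert_self _ _))
      rwa [Function.update_eq_self] at this
  rw [symProd_congr (z := fun j => if j ∈ S then y j else x0) (fun j hj => by simp [hj])]
  exact key S subset_rfl _ (fun j hj => by simpa [hj] using hy j hj)
    (fun j hj => by simpa [hj] using hx0)

theorem span_pow_eq_bot {α : Type*} (x : α → A) {N : ℕ}
    (h : ∀ w : List α, N ≤ w.length → (w.map x).prod = 0) :
    Submodule.span F (Set.range x) ^ N = ⊥ := by
  rw [Submodule.span_pow, Submodule.span_eq_bot]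
  intro a ha
  obtain ⟨f, rfl⟩ := Set.mem_pow.1 ha
  choose g hg using fun i => (f i).2
  have := h (List.ofFn g) (by simp)
  rw [List.map_ofFn] at this
  rw [← this]
  congr 2
  funext i
  exact (hg i).symm

end Cfsg.Agent.Zel.Grp
end

-- part: Zel/Sand/Words
section
/-!
# Regular (Lyndon–Shirshov) words

`SLt a b`: the words `a`, `b` differ at some position, and at the first such position the letter of
`a` is smaller.  `Reg u`: every proper non-empty suffix of the non-empty word `u` is `SLt`-below `u`.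
A regular word of length at least two is a product of two regular words.
-/

set_option autoImplicit false

namespace Cfsg.Agent.Zel.Sand

variable {α : Type*} [LinearOrder α]

/-- the first difference exists and is smaller in the first word -/
inductive SLt : List α → List α → Prop
  | rel {c d : α} (a b : List α) (h : c < d) : SLt (c :: a) (d :: b)
  | cons (c : α) {a b : List α} (h : SLt a b) : SLt (c :: a) (c :: b)

theorem SLt.trans {a b c : List α} (h₁ : SLt a b) (h₂ : SLt b c) : SLt a c := by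
  induction h₁ generalizing c with
  | rel a b h =>
    cases h₂ with
    | rel _ _ h' => exact SLt.rel _ _ (h.trans h')
    | cons _ _ => exact SLt.rel _ _ h
  | cons x _ ih =>
    cases h₂ with
    | rel _ _ h' => exact SLt.rel _ _ h'
    | cons _ h' => exact SLt.cons _ (ih h')

theorem SLt.irrefl (a : List α) : ¬ SLt a a := by
  induction a with
  | nil => intro h; cases h
  | cons x a ih =>
    intro h
    cases h with
    | rel _ _ h => exact lt_irrefl _ h
    | cons _ h => exact ih h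

theorem SLt.asymm {a b : List α} (h₁ : SLt a b) (h₂ : SLt b a) : False :=
  SLt.irrefl a (h₁.trans h₂)

theorem SLt.append {a b : List α} (h : SLt a b) (s t : List α) : SLt (a ++ s) (b ++ t) := by
  induction h with
  | rel a b h => exact SLt.rel _ _ h
  | cons x _ ih => exact SLt.cons _ ih

theorem SLt.append_left (p : List α) {a b : List α} (h : SLt a b) : SLt (p ++ a) (p ++ b) := by
  induction p with
  | nil => exact h
  | cons x p ih => exact SLt.cons _ ih

theorem SLt.of_append_left (p : List α) {a b : List α} (h : SLt (p ++ a) (p ++ b)) : SLt a b := by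
  induction p with
  | nil => exact h
  | cons x p ih =>
    cases h with
    | rel _ _ h => exact absurd h (lt_irrefl _)
    | cons _ h => exact ih h

theorem SLt.tri (a b : List α) : SLt a b ∨ SLt b a ∨ a <+: b ∨ b <+: a := by
  induction a generalizing b with
  | nil => exact Or.inr (Or.inr (Or.inl List.nil_prefix))
  | cons x a ih =>
    cases b with
    | nil => exact Or.inr (Or.inr (Or.inr List.nil_prefix))
    | cons y b =>
      rcases lt_trichotomy x y with h | h | h
      · exact Or.inl (SLt.rel _ _ h)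
      · subst h
        rcases ih b with h | h | h | h
        · exact Or.inl (SLt.cons _ h)
        · exact Or.inr (Or.inl (SLt.cons _ h))
        · exact Or.inr (Or.inr (Or.inl ((List.prefix_cons_inj x).2 h)))
        · exact Or.inr (Or.inr (Or.inr ((List.prefix_cons_inj x).2 h)))
      · exact Or.inr (Or.inl (SLt.rel _ _ h))

instance instStrictSLt : IsStrictOrder (List α) SLt where
  irrefl := SLt.irrefl
  trans := fun _ _ _ => SLt.trans

/-- a finite non-empty set of words has an `SLt`-maximal member -/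
theorem exists_max_of_finite {s : Set (List α)} (hs : s.Finite) (hne : s.Nonempty) :
    ∃ a ∈ s, ∀ b ∈ s, ¬ SLt a b := by
  have : IsStrictOrder (List α) (fun a b => SLt b a) :=
    { irrefl := SLt.irrefl, trans := fun _ _ _ h₁ h₂ => SLt.trans h₂ h₁ }
  have hw : s.WellFoundedOn (fun a b => SLt b a) := hs.wellFoundedOn
  obtain ⟨a, ha⟩ := hne
  obtain ⟨⟨b, hb⟩, -, hmin⟩ := WellFounded.has_min hw Set.univ ⟨⟨a, ha⟩, Set.mem_univ _⟩
  exact ⟨b, hb, fun c hc h => hmin ⟨c, hc⟩ (Set.mem_univ _) h⟩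

/-- regular words -/
def Reg (u : List α) : Prop := u ≠ [] ∧ ∀ v w : List α, v ≠ [] → w ≠ [] → u = v ++ w → SLt w u

theorem reg_single (a : α) : Reg [a] := by
  refine ⟨by simp, fun v w hv hw h => ?_⟩
  have := congrArg List.length h
  have h1 := List.length_pos_iff.2 hv
  have h2 := List.length_pos_iff.2 hw
  simp at this
  omega

/-- the standard factorisation -/
theorem Reg.exists_fact {u : List α} (hu : Reg u) (h2 : 2 ≤ u.length) :
    ∃ v w : List α, Reg v ∧ Reg w ∧ u = v ++ w ∧ SLt (w ++ v) (v ++ w) := by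
  classical
  let s : Set (List α) := {w | w ≠ [] ∧ ∃ v, v ≠ [] ∧ u = v ++ w}
  have hsf : s.Finite := by
    refine (u.tails.finite_toSet).subset ?_
    rintro w ⟨-, v, -, h⟩
    simp only [Set.mem_ofPred_eq, List.mem_tails]
    exact ⟨v, h.symm⟩
  have hsne : s.Nonempty := by
    obtain ⟨a, b, t, h⟩ : ∃ a b t, u = a :: b :: t := by
      match u, h2 with
      | a :: b :: t, _ => exact ⟨a, b, t, rfl⟩
    exact ⟨b :: t, by simp, [a], by simp, by simp [h]⟩
  let M : Set (List α) := {w | w ∈ s ∧ ∀ b ∈ s, ¬ SLt w b}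
  have hM : M.Nonempty := by
    obtain ⟨a, ha, h⟩ := exists_max_of_finite hsf hsne
    exact ⟨a, ha, h⟩
  obtain ⟨w, ⟨⟨hw0, v, hv0, huv⟩, hwmax⟩, hwmin⟩ :=
    WellFounded.has_min (InvImage.wf (fun l : List α => l.length) wellFounded_lt) M hM
  refine ⟨v, w, ⟨hv0, ?_⟩, ⟨hw0, ?_⟩, huv, ?_⟩
  · intro r v' hr hv' hv
    have hlt : SLt (v' ++ w) u := hu.2 r (v' ++ w) hr (by simp [hv']) (by rw [huv, hv]; simp)
    rcases SLt.tri v' v with h | h | h | h
    · exact h
    · exact absurd (h.append w w) (fun h' => h'.asymm (huv ▸ hlt))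
    · obtain ⟨t, ht⟩ := h
      have ht0 : t ≠ [] := by
        rintro rfl
        have := congrArg List.length hv
        have h1 := List.length_pos_iff.2 hr
        rw [← ht] at this
        simp at this
        exact hr this
      have h3 : SLt w (t ++ w) := by
        apply SLt.of_append_left v'
        rw [← List.append_assoc, ht, ← huv]; exact hlt
      exact absurd h3 (hwmax (t ++ w) ⟨by simp [ht0], v', hv', by rw [huv, ← ht]; simp⟩)
    · have := h.length_le
      have h1 := List.length_pos_iff.2 hr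
      rw [hv, List.length_append] at this
      omega
  · intro r w' hr hw' hw
    have hs' : w' ∈ s := ⟨hw', v ++ r, by simp [hv0], by rw [huv, hw]; simp⟩
    have hlen : w'.length < w.length := by
      have h1 := List.length_pos_iff.2 hr
      rw [hw]; simp; omega
    rcases SLt.tri w' w with h | h | h | h
    · exact h
    · exact absurd h (hwmax w' hs')
    · obtain ⟨t, ht⟩ := h
      refine absurd hlen (hwmin w' ⟨hs', fun b hb hlt => ?_⟩)
      have := hlt.append t []
      rw [ht, List.append_nil] at this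
      exact hwmax b hb this
    · exact absurd h.length_le (by omega)
  · have := (hu.2 v w hv0 hw0 huv).append v []
    rw [List.append_nil, huv] at this
    exact this

end Cfsg.Agent.Zel.Sand
end

-- part: Zel/Sand/Unavoid
section
/-!
# Every long word has a factor `u g u` with `u` regular and `g` regular or empty
-/

set_option autoImplicit false

namespace Cfsg.Agent.Zel.Sand

section Inf

variable {α : Type*}

/-- agreement on the first `n` letters -/
def Ag (n : ℕ) (a b : ℕ → α) : Prop := ∀ l < n, a l = b l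

theorem Ag.mono {n m : ℕ} {a b : ℕ → α} (h : Ag n a b) (hm : m ≤ n) : Ag m a b :=
  fun l hl => h l (lt_of_lt_of_le hl hm)

theorem Ag.symm {n : ℕ} {a b : ℕ → α} (h : Ag n a b) : Ag n b a := fun l hl => (h l hl).symm

theorem Ag.trans {n : ℕ} {a b c : ℕ → α} (h : Ag n a b) (h' : Ag n b c) : Ag n a c :=
  fun l hl => (h l hl).trans (h' l hl)

/-- the shift -/
def sh (i : ℕ) (y : ℕ → α) : ℕ → α := fun k => y (i + k)

theorem sh_sh (i j : ℕ) (y : ℕ → α) : sh i (sh j y) = sh (j + i) y := by
  funext k; simp [sh, add_assoc]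

theorem sh_zero (y : ℕ → α) : sh 0 y = y := by funext k; simp [sh]

theorem Ag.sh {n i : ℕ} {a b : ℕ → α} (h : Ag (i + n) a b) : Ag n (sh i a) (sh i b) :=
  fun l hl => h (i + l) (by omega)

/-- compactness -/
theorem exists_limit [Finite α] (x : ℕ → ℕ → α) :
    ∃ y : ℕ → α, ∀ n K, ∃ k, K ≤ k ∧ Ag n (x k) y := by
  let U : Ultrafilter ℕ := Filter.hyperfilter ℕ
  have h : ∀ i, ∃ a : α, {k | x k i = a} ∈ U := by
    intro i
    obtain ⟨a, ha⟩ := Ultrafilter.eq_pure_of_finite (U.map (fun k => x k i))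
    refine ⟨a, ?_⟩
    have : ({a} : Set α) ∈ U.map (fun k => x k i) := by rw [ha]; simp
    exact this
  choose y hy using h
  refine ⟨y, fun n K => ?_⟩
  have h1 : ∀ᶠ k in (U : Filter ℕ), ∀ i ∈ Finset.range n, x k i = y i :=
    (Filter.eventually_all_finset _).2 (fun i _ => hy i)
  have h2 : ∀ᶠ k in (U : Filter ℕ), K ≤ k := by
    apply Filter.hyperfilter_le_cofinite
    rw [Nat.cofinite_eq_atTop]
    exact Filter.eventually_ge_atTop K
  obtain ⟨k, hk1, hk2⟩ := (h1.and h2).exists
  exact ⟨k, hk2, fun l hl => hk1 l (Finset.mem_range.2 hl)⟩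

/-- a finite piece of an infinite word -/
def seg (y : ℕ → α) (i n : ℕ) : List α := (List.range' i n).map y

theorem seg_length (y : ℕ → α) (i n : ℕ) : (seg y i n).length = n := by simp [seg]

theorem seg_add (y : ℕ → α) (i n m : ℕ) : seg y i (n + m) = seg y i n ++ seg y (i + n) m := by
  simp [seg, ← List.map_append]

theorem seg_succ (y : ℕ → α) (i n : ℕ) : seg y i (n + 1) = y i :: seg y (i + 1) n := by
  simp [seg, List.range'_succ]

theorem seg_zero (y : ℕ → α) (i : ℕ) : seg y i 0 = [] := by simp [seg]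

theorem seg_one (y : ℕ → α) (i : ℕ) : seg y i 1 = [y i] := by simp [seg]

theorem seg_congr {y z : ℕ → α} {i j n : ℕ} (h : ∀ l < n, y (i + l) = z (j + l)) :
    seg y i n = seg z j n := by
  induction n generalizing i j with
  | zero => simp [seg]
  | succ n ih =>
    rw [seg_succ, seg_succ]
    have h0 := h 0 (Nat.succ_pos _)
    simp only [add_zero] at h0
    rw [h0, ih (fun l hl => ?_)]
    have := h (l + 1) (by omega)
    rw [show i + 1 + l = i + (l + 1) by omega, show j + 1 + l = j + (l + 1) by omega]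
    exact this

theorem seg_getD (w : List α) (a : α) : seg (fun k => w.getD k a) 0 w.length = w := by
  apply List.ext_getElem
  · simp [seg]
  · intro i h1 h2
    simp [seg, List.getElem?_eq_getElem h2]

variable [LinearOrder α]

/-- lexicographic order of infinite words -/
def ILt (a b : ℕ → α) : Prop := ∃ d, Ag d a b ∧ a d < b d

theorem ILt.trans {a b c : ℕ → α} (h : ILt a b) (h' : ILt b c) : ILt a c := by
  obtain ⟨d, h1, h2⟩ := h
  obtain ⟨e, h3, h4⟩ := h'
  rcases lt_trichotomy d e with H | rfl | H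
  · exact ⟨d, h1.trans (h3.mono H.le), h3 d H ▸ h2⟩
  · exact ⟨d, h1.trans h3, h2.trans h4⟩
  · exact ⟨e, (h1.mono H.le).trans h3, (h1 e H).symm ▸ h4⟩

theorem ILt.irrefl (a : ℕ → α) : ¬ ILt a a := fun ⟨_, _, h⟩ => lt_irrefl _ h

/-- a first difference -/
theorem exists_first_diff {n : ℕ} {a b : ℕ → α} (h : ¬ Ag n a b) :
    ∃ d < n, Ag d a b ∧ a d ≠ b d := by
  classical
  have hex : ∃ d, d < n ∧ a d ≠ b d := by
    by_contra hc
    exact h (fun l hl => by_contra (fun hne => hc ⟨l, hl, hne⟩))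
  refine ⟨Nat.find hex, (Nat.find_spec hex).1, fun l hl => ?_, (Nat.find_spec hex).2⟩
  by_contra hne
  exact Nat.find_min hex hl ⟨hl.trans (Nat.find_spec hex).1, hne⟩

theorem eq_of_not_ILt {a b : ℕ → α} (h : ¬ ILt a b) (h' : ¬ ILt b a) : a = b := by
  funext k
  by_contra hne
  obtain ⟨d, -, h1, h2⟩ := exists_first_diff (n := k + 1) (a := a) (b := b)
    (fun hh => hne (hh k (Nat.lt_succ_self _)))
  rcases lt_or_gt_of_ne h2 with h3 | h3
  · exact h ⟨d, h1, h3⟩
  · exact h' ⟨d, h1.symm, h3⟩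

theorem not_ILt_trans {a b c : ℕ → α} (h : ¬ ILt b a) (h' : ¬ ILt c b) : ¬ ILt c a := by
  intro hca
  by_cases hab : ILt a b
  · exact h' (hca.trans hab)
  · rw [eq_of_not_ILt hab h] at hca
    exact h' hca

/-- `a ≤ b ≤ c` and `a`, `c` agree: so do `b`, `c` -/
theorem ag_of_between {n : ℕ} {a b c : ℕ → α} (h : ¬ ILt b a) (h' : ¬ ILt c b) (hac : Ag n a c) :
    Ag n b c := by
  by_contra hn
  obtain ⟨d, hd, h1, h2⟩ := exists_first_diff hn
  rcases lt_or_gt_of_ne h2 with h3 | h3
  · exact h ⟨d, h1.trans (hac.mono hd.le).symm, (hac d hd).symm ▸ h3⟩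
  · exact h' ⟨d, h1.symm, h3⟩

theorem exists_sup [Finite α] {A : Set (ℕ → α)} (hA : A.Nonempty) :
    ∃ σ : ℕ → α, (∀ a ∈ A, ¬ ILt σ a) ∧ ∀ n, ∃ a ∈ A, Ag n a σ := by
  have h : ∀ n, ∃ a ∈ A, ∀ b ∈ A, ∀ d < n, Ag d a b → ¬ a d < b d := by
    intro n
    induction n with
    | zero =>
      obtain ⟨a, ha⟩ := hA
      exact ⟨a, ha, fun _ _ _ h => absurd h (Nat.not_lt_zero _)⟩
    | succ n ih =>
      obtain ⟨a, ha, hmax⟩ := ih
      obtain ⟨c, ⟨a', ⟨ha', hag⟩, rfl⟩, hc⟩ := Set.exists_max_image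
        ((fun b : ℕ → α => b n) '' {b | b ∈ A ∧ Ag n b a}) id (Set.toFinite _)
        ⟨a n, a, ⟨ha, fun _ _ => rfl⟩, rfl⟩
      refine ⟨a', ha', fun b hb d hd hab => ?_⟩
      rcases Nat.lt_succ_iff_lt_or_eq.1 hd with hd | rfl
      · rw [hag d hd]
        exact hmax b hb d hd ((hag.mono hd.le).symm.trans hab)
      · exact not_lt.2 (hc _ ⟨b, ⟨hb, hab.symm.trans hag⟩, rfl⟩)
  choose x hx hmax using h
  obtain ⟨σ, hσ⟩ := exists_limit x
  refine ⟨σ, ?_, fun n => ?_⟩
  · rintro a ha ⟨d, h1, h2⟩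
    obtain ⟨k, hk, hag⟩ := hσ (d + 1) (d + 1)
    refine hmax k a ha d (by omega) ((hag.mono (Nat.le_succ _)).trans h1) ?_
    rw [hag d (Nat.lt_succ_self _)]; exact h2
  · obtain ⟨k, -, hag⟩ := hσ n 0
    exact ⟨x k, hx k, hag⟩

theorem exists_inf [Finite α] {A : Set (ℕ → α)} (hA : A.Nonempty) :
    ∃ σ : ℕ → α, (∀ a ∈ A, ¬ ILt a σ) ∧ ∀ n, ∃ a ∈ A, Ag n a σ := by
  obtain ⟨σ, h1, h2⟩ := exists_sup (α := αᵒᵈ) (A := A) hA
  refine ⟨σ, ?_, h2⟩
  rintro a ha ⟨d, h3, h4⟩
  exact h1 a ha ⟨d, h3.symm, h4⟩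

/-- a non-empty closed shift-invariant set has a recurrent member above all its shifts -/
theorem exists_rec_max [Finite α] {X : Set (ℕ → α)} (hne : X.Nonempty)
    (hsh : ∀ y ∈ X, ∀ i, sh i y ∈ X) (hcl : ∀ y, (∀ n, ∃ x ∈ X, Ag n x y) → y ∈ X) :
    ∃ ω ∈ X, (∀ i, ¬ ILt ω (sh i ω)) ∧ ∀ n, ∃ j, 1 ≤ j ∧ Ag n (sh j ω) ω := by
  let Y : Set (ℕ → α) := {y | y ∈ X ∧ ∀ i, ¬ ILt y (sh i y)}
  have hs : ∀ x ∈ X, ∃ σ ∈ Y, ∀ n, ∃ i, Ag n (sh i x) σ := by
    intro x hx
    obtain ⟨σ, h1, h2⟩ := exists_sup (A := Set.range (fun i => sh i x)) (Set.range_nonempty _)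
    refine ⟨σ, ⟨hcl σ (fun n => ?_), ?_⟩, fun n => ?_⟩
    · obtain ⟨_, ⟨i, rfl⟩, h⟩ := h2 n
      exact ⟨_, hsh x hx i, h⟩
    · rintro i ⟨d, h3, h4⟩
      obtain ⟨_, ⟨j, rfl⟩, h⟩ := h2 (i + (d + 1))
      have h5 := h.sh
      rw [sh_sh] at h5
      refine h1 (sh (j + i) x) ⟨j + i, rfl⟩ ⟨d, h3.trans (h5.mono (Nat.le_succ _)).symm, ?_⟩
      rw [h5 d (Nat.lt_succ_self _)]; exact h4
    · obtain ⟨_, ⟨i, rfl⟩, h⟩ := h2 n
      exact ⟨i, h⟩
  have hY : Y.Nonempty := by
    obtain ⟨x, hx⟩ := hne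
    obtain ⟨σ, hσ, -⟩ := hs x hx
    exact ⟨σ, hσ⟩
  obtain ⟨ω, h1, h2⟩ := exists_inf hY
  have hωX : ω ∈ X := hcl ω (fun n => by
    obtain ⟨a, ha, h⟩ := h2 n
    exact ⟨a, ha.1, h⟩)
  have hωM : ∀ i, ¬ ILt ω (sh i ω) := by
    rintro i ⟨d, h3, h4⟩
    obtain ⟨a, ha, h⟩ := h2 (i + (d + 1))
    have h5 := h.sh
    refine ha.2 i ⟨d, ((h.mono (by omega)).trans h3).trans (h5.mono (Nat.le_succ _)).symm, ?_⟩
    rw [h5 d (Nat.lt_succ_self _), h d (by omega)]; exact h4
  refine ⟨ω, hωX, hωM, fun n => ?_⟩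
  obtain ⟨σ, hσ, h3⟩ := hs (sh 1 ω) (hsh ω hωX 1)
  have : σ = ω := by
    refine eq_of_not_ILt (h1 σ hσ) ?_
    rintro ⟨d, h4, h5⟩
    obtain ⟨i, hi⟩ := h3 (d + 1)
    rw [sh_sh] at hi
    refine hωM (1 + i) ⟨d, h4.trans (hi.mono (Nat.le_succ _)).symm, ?_⟩
    rw [hi d (Nat.lt_succ_self _)]; exact h5
  subst this
  obtain ⟨i, hi⟩ := h3 n
  rw [sh_sh] at hi
  exact ⟨1 + i, by omega, hi⟩

theorem slt_seg {y z : ℕ → α} {i j n m d : ℕ} (hn : d < n) (hm : d < m)
    (h1 : ∀ l < d, y (i + l) = z (j + l)) (h2 : y (i + d) < z (j + d)) :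
    SLt (seg y i n) (seg z j m) := by
  obtain ⟨n, rfl⟩ : ∃ n', n = d + (n' + 1) := ⟨n - d - 1, by omega⟩
  obtain ⟨m, rfl⟩ : ∃ m', m = d + (m' + 1) := ⟨m - d - 1, by omega⟩
  rw [seg_add y i d, seg_add z j d, seg_congr h1, seg_succ, seg_succ]
  exact SLt.append_left _ (SLt.rel _ _ h2)

/-- an unbordered prefix of a word above all its shifts is regular -/
theorem reg_seg {ω : ℕ → α} (hM : ∀ i, ¬ ILt ω (sh i ω)) {β : ℕ} (hβ : 1 ≤ β)
    (hb : ∀ k, 1 ≤ k → k < β → ¬ Ag (β - k) (sh k ω) ω) : Reg (seg ω 0 β) := by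
  refine ⟨fun h => ?_, fun v w hv hw h => ?_⟩
  · have := seg_length ω 0 β
    rw [h] at this
    simp at this
    omega
  · have hl := seg_length ω 0 β
    rw [h, List.length_append] at hl
    have h1 := List.length_pos_iff.2 hv
    have h2 := List.length_pos_iff.2 hw
    have h3 : seg ω 0 β = seg ω 0 v.length ++ seg ω v.length w.length := by
      rw [← hl, seg_add, zero_add]
    have h4 : w = seg ω v.length w.length :=
      (List.append_inj (h.symm.trans h3) (by rw [seg_length])).2
    obtain ⟨d, hd, h5, h6⟩ := exists_first_diff (hb v.length h1 (by omega))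
    rw [h4]
    refine slt_seg (d := d) (by omega) (by omega) (fun l hl => by simpa [sh] using h5 l hl) ?_
    rcases lt_or_gt_of_ne h6 with h7 | h7
    · simpa [sh] using h7
    · exact absurd ⟨d, h5.symm, h7⟩ (hM v.length)

end Inf

variable {α : Type*} [LinearOrder α]

/-- the word has a factor `u g u`, `u` regular, `g` regular or empty -/
def Bad (w : List α) : Prop :=
  ∃ p u g s : List α, Reg u ∧ (g = [] ∨ Reg g) ∧ w = p ++ (u ++ g ++ u) ++ s

theorem Bad.extend {w : List α} (h : Bad w) (p s : List α) : Bad (p ++ w ++ s) := by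
  obtain ⟨p', u, g, s', h1, h2, rfl⟩ := h
  exact ⟨p ++ p', u, g, s' ++ s, h1, h2, by simp⟩

theorem bad_of_inf [Finite α] (y : ℕ → α) : ∃ i n, Bad (seg y i n) := by
  classical
  by_contra hc
  let X : Set (ℕ → α) := {y | ∀ i n, ¬ Bad (seg y i n)}
  have hne : X.Nonempty := ⟨y, fun i n h => hc ⟨i, n, h⟩⟩
  have hsh : ∀ y ∈ X, ∀ i, sh i y ∈ X := by
    intro y hy i j n h
    have : seg (sh i y) j n = seg y (i + j) n := seg_congr (fun l _ => by simp [sh, add_assoc])
    exact hy _ _ (this ▸ h)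
  have hcl : ∀ y, (∀ n, ∃ x ∈ X, Ag n x y) → y ∈ X := by
    intro y hy i n h
    obtain ⟨x, hx, hag⟩ := hy (i + n)
    have : seg y i n = seg x i n := seg_congr (fun l hl => (hag (i + l) (by omega)).symm)
    exact hx _ _ (this ▸ h)
  obtain ⟨ω, hω, hM, hR⟩ := exists_rec_max hne hsh hcl
  -- weak records
  have hrec : ∀ n, ∃ j, 1 ≤ j ∧ Ag n (sh j ω) ω ∧
      ∀ i, 1 ≤ i → i < j → ¬ ILt (sh j ω) (sh i ω) := by
    intro n
    obtain ⟨j0, hj0, hag⟩ := hR n
    have hmax : ∀ J, 1 ≤ J → ∃ j, 1 ≤ j ∧ j ≤ J ∧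
        ∀ i, 1 ≤ i → i ≤ J → ¬ ILt (sh j ω) (sh i ω) := by
      intro J hJ
      induction J, hJ using Nat.le_induction with
      | base =>
        refine ⟨1, le_rfl, le_rfl, fun i h1 h2 => ?_⟩
        rw [le_antisymm h2 h1]; exact ILt.irrefl _
      | succ J hJ ih =>
        obtain ⟨j, h1, h2, h3⟩ := ih
        by_cases hlt : ILt (sh j ω) (sh (J + 1) ω)
        · refine ⟨J + 1, by omega, le_rfl, fun i h4 h5 => ?_⟩
          rcases Nat.lt_succ_iff_lt_or_eq.1 (Nat.lt_succ_of_le h5) with h6 | rfl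
          · exact fun h7 => h3 i h4 (by omega) (hlt.trans h7)
          · exact ILt.irrefl _
        · refine ⟨j, h1, by omega, fun i h4 h5 => ?_⟩
          rcases Nat.lt_succ_iff_lt_or_eq.1 (Nat.lt_succ_of_le h5) with h6 | rfl
          · exact h3 i h4 (by omega)
          · exact hlt
    obtain ⟨j, h1, h2, h3⟩ := hmax j0 hj0
    exact ⟨j, h1, ag_of_between (h3 j0 hj0 le_rfl) (hM j) hag, fun i h4 h5 => h3 i h4 (by omega)⟩
  choose J hJ1 hJ2 hJ3 using hrec
  -- a letter preceding infinitely many records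
  obtain ⟨z, hz⟩ := exists_limit (fun n (_ : ℕ) => ω (J n - 1))
  obtain ⟨n0, -, hn0⟩ := hz 1 0
  have ha0 : ω (J n0 - 1) = z 0 := hn0 0 Nat.one_pos
  obtain ⟨t, ht⟩ : ∃ t, J n0 = t + 1 := ⟨J n0 - 1, by have := hJ1 n0; omega⟩
  have hat : ω t = z 0 := by rw [← ha0, ht]; rfl
  obtain ⟨n1, hn1, hn1'⟩ := hz 1 (t + 1)
  have ha1 : ω (J n1 - 1) = z 0 := hn1' 0 Nat.one_pos
  obtain ⟨s, hs⟩ : ∃ s, J n1 = s + 1 := ⟨J n1 - 1, by have := hJ1 n1; omega⟩
  have has : ω s = z 0 := by rw [← ha1, hs]; rfl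
  -- the factor `a ω[0,t) a`
  have hfac : seg ω s (1 + (t + 1)) = [z 0] ++ seg ω 0 t ++ [z 0] := by
    have h1 : seg ω (s + 1) (t + 1) = seg ω 0 (t + 1) := seg_congr (fun l hl => by
      have := hJ2 n1 l (by omega)
      rw [hs] at this
      simpa [sh] using this)
    rw [seg_add, seg_one, has, h1, seg_add, seg_one, zero_add, hat, List.append_assoc]
  rcases Nat.eq_zero_or_pos t with ht0 | ht0
  · refine hω s (1 + (t + 1)) ⟨[], [z 0], [], [], reg_single _, Or.inl rfl, ?_⟩
    rw [hfac, ht0, seg_zero]; simp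
  · have hex : ∃ β, 1 ≤ β ∧ β ≤ t ∧ Ag β (sh (t - β) ω) ω :=
      ⟨t, ht0, le_rfl, by rw [Nat.sub_self, sh_zero]; exact fun _ _ => rfl⟩
    obtain ⟨hβ1, hβt, hβ⟩ := Nat.find_spec hex
    have hmin := fun m => Nat.find_min hex (m := m)
    generalize Nat.find hex = β at hβ1 hβt hβ hmin
    have hreg : Reg (seg ω 0 β) := by
      refine reg_seg hM hβ1 (fun k hk1 hk2 hag => hmin (β - k) (by omega) ⟨by omega, by omega, ?_⟩)
      intro l hl
      have h1 := hβ (k + l) (by omega)
      have h2 := hag l hl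
      simp only [sh] at h1 h2 ⊢
      rw [← h2, ← h1]
      congr 1
      omega
    rcases eq_or_lt_of_le hβt with hβ' | hβ'
    · refine hω s (1 + (t + 1)) ⟨[], [z 0], seg ω 0 t, [], reg_single _, Or.inr (hβ' ▸ hreg), ?_⟩
      rw [hfac]; simp
    · by_cases hag : Ag β (sh (t + 1) ω) ω
      · refine hω (t - β) (β + 1 + β) ⟨[], seg ω 0 β, [z 0], [], hreg, Or.inr (reg_single _), ?_⟩
        have h1 : seg ω (t - β) β = seg ω 0 β :=
          seg_congr (fun l hl => by simpa [sh] using hβ l hl)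
        have h2 : seg ω (t + 1) β = seg ω 0 β :=
          seg_congr (fun l hl => by simpa [sh] using hag l hl)
        rw [seg_add, seg_add, seg_one, h1, show t - β + β = t by omega, hat,
          show t - β + (β + 1) = t + 1 by omega, h2]
        simp
      · obtain ⟨d, hd, h1, h2⟩ := exists_first_diff hag
        rcases lt_or_gt_of_ne h2 with h3 | h3
        · refine hJ3 n0 (t - β) (by omega) (by omega) ⟨d, ?_, ?_⟩
          · rw [ht]; exact h1.trans (hβ.mono hd.le).symm
          · rw [ht, hβ d hd]; exact h3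
        · exact hM (t + 1) ⟨d, h1.symm, h3⟩

/-- **Every long word has a factor `u g u`** with `u` regular and `g` regular or empty. -/
theorem exists_bad_bound (α : Type*) [LinearOrder α] [Finite α] :
    ∃ N : ℕ, ∀ w : List α, N ≤ w.length → Bad w := by
  by_contra hc
  have h : ∀ N : ℕ, ∃ w : List α, N ≤ w.length ∧ ¬ Bad w := by
    intro N
    by_contra h
    exact hc ⟨N, fun w hw => by_contra (fun hb => h ⟨w, hw, hb⟩)⟩
  choose w hw1 hw2 using h
  have a : α := (w 1).get ⟨0, hw1 1⟩
  obtain ⟨y, hy⟩ := exists_limit (fun k l => (w k).getD l a)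
  obtain ⟨i, n, hb⟩ := bad_of_inf y
  obtain ⟨k, hk, hag⟩ := hy (i + n) (i + n)
  have h1 : seg y i n = seg (fun l => (w k).getD l a) i n :=
    seg_congr (fun l hl => (hag (i + l) (by omega)).symm)
  obtain ⟨r, hr⟩ : ∃ r, (w k).length = i + n + r := ⟨(w k).length - (i + n), by have := hw1 k; omega⟩
  apply hw2 k
  rw [← seg_getD (w k) a, hr, seg_add, seg_add, zero_add, ← h1]
  exact hb.extend _ _

end Cfsg.Agent.Zel.Sand
end

-- part: Zel/Sand/Main
section
/-!
# The Kostrikin–Zelmanov sandwich theorem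

`sandN m` is a bound depending on `m` only such that a product of at least `sandN m` factors taken
from `m` sandwiches vanishes.
-/

set_option autoImplicit false

namespace Cfsg.Agent.Zel.Sand

section Lead

variable {α : Type*} [LinearOrder α] {R : Type*} [Ring R] (x : α → R)

/-- the span of the values of the smaller words of the same length -/
def Low (u : List α) : AddSubgroup R :=
  AddSubgroup.closure {r | ∃ w : List α, w.length = u.length ∧ SLt w u ∧ r = (w.map x).prod}

variable {x}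

theorem val_mem_low {u w : List α} (hl : w.length = u.length) (h : SLt w u) :
    (w.map x).prod ∈ Low x u := AddSubgroup.subset_closure ⟨w, hl, h, rfl⟩

theorem low_mono {u w : List α} (hl : w.length = u.length) (h : SLt w u) : Low x w ≤ Low x u := by
  refine (AddSubgroup.closure_le _).2 ?_
  rintro _ ⟨v, h1, h2, rfl⟩
  exact val_mem_low (h1.trans hl) (h2.trans h)

theorem low_mul_val {u : List α} {r : R} (hr : r ∈ Low x u) (v v' : List α)
    (hl : v'.length = v.length) : r * (v'.map x).prod ∈ Low x (u ++ v) := by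
  induction hr using AddSubgroup.closure_induction with
  | mem r hr =>
    obtain ⟨w, h1, h2, rfl⟩ := hr
    rw [← List.prod_append, ← List.map_append]
    exact val_mem_low (by simp [h1, hl]) (h2.append _ _)
  | zero => rw [zero_mul]; exact zero_mem _
  | add a b _ _ ha hb => rw [add_mul]; exact add_mem ha hb
  | neg a _ ha => rw [neg_mul]; exact neg_mem ha

theorem val_mul_low (u : List α) {v : List α} {r : R} (hr : r ∈ Low x v) :
    (u.map x).prod * r ∈ Low x (u ++ v) := by
  induction hr using AddSubgroup.closure_induction with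
  | mem r hr =>
    obtain ⟨w, h1, h2, rfl⟩ := hr
    rw [← List.prod_append, ← List.map_append]
    exact val_mem_low (by simp [h1]) (h2.append_left _)
  | zero => rw [mul_zero]; exact zero_mem _
  | add a b _ _ ha hb => rw [mul_add]; exact add_mem ha hb
  | neg a _ ha => rw [mul_neg]; exact neg_mem ha

theorem low_mul_low {u v : List α} {r s : R} (hr : r ∈ Low x u) (hs : s ∈ Low x v) :
    r * s ∈ Low x (u ++ v) := by
  induction hs using AddSubgroup.closure_induction with
  | mem s hs =>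
    obtain ⟨w, h1, -, rfl⟩ := hs
    exact low_mul_val hr v w h1
  | zero => rw [mul_zero]; exact zero_mem _
  | add a b _ _ ha hb => rw [mul_add]; exact add_mem ha hb
  | neg a _ ha => rw [mul_neg]; exact neg_mem ha

/-- `c` has leading word `u` -/
def Lead (x : α → R) (c : R) (u : List α) : Prop := c - (u.map x).prod ∈ Low x u

theorem Lead.val (u : List α) : Lead x (u.map x).prod u := by
  unfold Lead; rw [sub_self]; exact zero_mem _

theorem Lead.mul {c d : R} {u v : List α} (hc : Lead x c u) (hd : Lead x d v) :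
    Lead x (c * d) (u ++ v) := by
  unfold Lead at *
  have : c * d - ((u ++ v).map x).prod =
      (c - (u.map x).prod) * (d - (v.map x).prod) + (c - (u.map x).prod) * (v.map x).prod
        + (u.map x).prod * (d - (v.map x).prod) := by
    rw [List.map_append, List.prod_append]; noncomm_ring
  rw [this]
  exact add_mem (add_mem (low_mul_low hc hd) (low_mul_val hc v v rfl)) (val_mul_low u hd)

theorem Lead.sub {c d : R} {u v : List α} (hc : Lead x c u) (hd : Lead x d v)
    (hl : v.length = u.length) (h : SLt v u) : Lead x (c - d) u := by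
  unfold Lead at *
  have : c - d - (u.map x).prod =
      (c - (u.map x).prod) - (d - (v.map x).prod) - (v.map x).prod := by abel
  rw [this]
  exact sub_mem (sub_mem hc (low_mono hl h hd)) (val_mem_low hl h)

/-- a regular word is the leading word of an iterated commutator -/
theorem exists_lead {S : Set R} (hS : ∀ a ∈ S, ∀ b ∈ S, a * b - b * a ∈ S) (hx : ∀ i, x i ∈ S)
    {u : List α} (hu : Reg u) : ∃ c ∈ S, Lead x c u := by
  induction hn : u.length using Nat.strong_induction_on generalizing u with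
  | _ n ih =>
    by_cases h2 : 2 ≤ u.length
    · obtain ⟨v, w, hv, hw, huv, hlt⟩ := hu.exists_fact h2
      have h3 := List.length_pos_iff.2 hv.1
      have h4 := List.length_pos_iff.2 hw.1
      have h5 : v.length + w.length = n := by rw [← hn, huv, List.length_append]
      obtain ⟨c, hc, hcv⟩ := ih v.length (by omega) hv rfl
      obtain ⟨d, hd, hdw⟩ := ih w.length (by omega) hw rfl
      refine ⟨c * d - d * c, hS c hc d hd, ?_⟩
      rw [huv]
      exact (hcv.mul hdw).sub (hdw.mul hcv) (by simp [add_comm]) hlt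
    · have h3 := List.length_pos_iff.2 hu.1
      obtain ⟨a, rfl⟩ := List.length_eq_one_iff.1 (show u.length = 1 by omega)
      refine ⟨x a, hx a, ?_⟩
      have := Lead.val (x := x) [a]
      simpa using this

theorem val_mem_low_of_bad {S : Set R} (hS : ∀ a ∈ S, ∀ b ∈ S, a * b - b * a ∈ S)
    (h2 : ∀ c ∈ S, c * c = 0) (h3 : ∀ c ∈ S, ∀ d ∈ S, c * d * c = 0) (hx : ∀ i, x i ∈ S)
    {w : List α} (hw : Bad w) : (w.map x).prod ∈ Low x w := by
  obtain ⟨p, u, g, s, hu, hg, rfl⟩ := hw
  obtain ⟨c, hc, hcu⟩ := exists_lead hS hx hu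
  have h0 : Lead x 0 (u ++ g ++ u) := by
    rcases hg with rfl | hg
    · rw [List.append_nil, ← h2 c hc]; exact hcu.mul hcu
    · obtain ⟨d, hd, hdg⟩ := exists_lead hS hx hg
      rw [← h3 c hc d hd]; exact (hcu.mul hdg).mul hcu
  have h1 := ((Lead.val (x := x) p).mul h0).mul (Lead.val s)
  unfold Lead at h1
  rw [mul_zero, zero_mul, zero_sub] at h1
  exact neg_mem_iff.1 h1

theorem val_eq_zero_of_bad [Finite α] {S : Set R} (hS : ∀ a ∈ S, ∀ b ∈ S, a * b - b * a ∈ S)
    (h2 : ∀ c ∈ S, c * c = 0) (h3 : ∀ c ∈ S, ∀ d ∈ S, c * d * c = 0) (hx : ∀ i, x i ∈ S)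
    {n : ℕ} (hn : ∀ w : List α, w.length = n → Bad w) (w : List α) (hw : w.length = n) :
    (w.map x).prod = 0 := by
  have hwf : {l : List α | l.length = n}.WellFoundedOn SLt :=
    (List.finite_length_eq α n).wellFoundedOn
  refine hwf.induction (P := fun w => (w.map x).prod = 0) hw (fun w hw ih => ?_)
  have h := val_mem_low_of_bad hS h2 h3 hx (hn w hw)
  have hle : Low x w ≤ ⊥ := by
    refine (AddSubgroup.closure_le _).2 ?_
    rintro _ ⟨v, h4, h5, rfl⟩
    exact ih v (h4.trans hw) h5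
  exact hle h

end Lead

/-- the bound of the sandwich theorem for `m` generators -/
noncomputable def sandN (m : ℕ) : ℕ := (exists_bad_bound (Fin m)).choose

/-- **Sandwich theorem**, associative form.  `S` is closed under commutators, `c * c = 0` and
`c * d * c = 0` for `c, d ∈ S`: a product of `sandN m` factors among `m` members of `S` is zero. -/
theorem prod_eq_zero_fin {R : Type*} [Ring R] {S : Set R}
    (hS : ∀ a ∈ S, ∀ b ∈ S, a * b - b * a ∈ S)
    (h2 : ∀ c ∈ S, c * c = 0) (h3 : ∀ c ∈ S, ∀ d ∈ S, c * d * c = 0) {m : ℕ} (x : Fin m → R)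
    (hx : ∀ i, x i ∈ S) (w : List (Fin m)) (hw : sandN m ≤ w.length) : (w.map x).prod = 0 :=
  val_eq_zero_of_bad hS h2 h3 hx
    (fun v hv => (exists_bad_bound (Fin m)).choose_spec v (hv ▸ hw)) w rfl

/-- the same for a finite set of members of `S` -/
theorem prod_eq_zero_finset {R : Type*} [Ring R] {S : Set R}
    (hS : ∀ a ∈ S, ∀ b ∈ S, a * b - b * a ∈ S)
    (h2 : ∀ c ∈ S, c * c = 0) (h3 : ∀ c ∈ S, ∀ d ∈ S, c * d * c = 0) (T : Finset R)
    (hT : ∀ t ∈ T, t ∈ S) (l : List R) (hl : ∀ a ∈ l, a ∈ T) (hlen : sandN T.card ≤ l.length) :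
    l.prod = 0 := by
  classical
  let e := T.equivFin
  let x : Fin T.card → R := fun i => (e.symm i : R)
  let w : List (Fin T.card) := l.pmap (fun a h => e ⟨a, h⟩) hl
  have hw : w.map x = l := by
    simp [w, x, List.map_pmap]
  rw [← hw]
  exact prod_eq_zero_fin hS h2 h3 x (fun i => hT _ (e.symm i).2) w (by simpa [w] using hlen)

/-- `c` is a sandwich relative to the set `T` -/
def IsSand {R : Type*} [Ring R] (T : Set R) (c : R) : Prop :=
  c ∈ T ∧ c * c = 0 ∧ ∀ y ∈ T, c * y * c = 0

/-- the commutator of two sandwiches is a sandwich -/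
theorem IsSand.lie {R : Type*} [Ring R] {T : Set R} (hT : ∀ a ∈ T, ∀ b ∈ T, a * b - b * a ∈ T)
    {a b : R} (ha : IsSand T a) (hb : IsSand T b) : IsSand T (a * b - b * a) := by
  obtain ⟨ha1, ha2, ha3⟩ := ha
  obtain ⟨hb1, hb2, hb3⟩ := hb
  have h1 := ha3 b hb1
  have h2 := hb3 a ha1
  refine ⟨hT a ha1 b hb1, ?_, fun y hy => ?_⟩
  · have : (a * b - b * a) * (a * b - b * a) =
        (a * b * a) * b - a * (b * b) * a - b * (a * a) * b + (b * a * b) * a := by noncomm_ring
    rw [this, h1, h2, ha2, hb2]; simp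
  · have h3 := ha3 _ (hT b hb1 y hy)
    have h4 := hb3 _ (hT a ha1 y hy)
    have : (a * b - b * a) * y * (a * b - b * a) =
        (a * (b * y - y * b) * a) * b + a * y * (b * a * b) - a * (b * y * b) * a
          - b * (a * y * a) * b + (b * (a * y - y * a) * b) * a + b * y * (a * b * a) := by
      noncomm_ring
    rw [this, h1, h2, h3, h4, ha3 y hy, hb3 y hy]; simp

/-- **Sandwich theorem**: `T` is closed under commutators, `x i` are `m` sandwiches relative to `T`.
Every product of at least `sandN m` of the `x i` is zero. -/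
theorem sand_prod_eq_zero {R : Type*} [Ring R] {T : Set R}
    (hT : ∀ a ∈ T, ∀ b ∈ T, a * b - b * a ∈ T) {m : ℕ} (x : Fin m → R)
    (hx : ∀ i, IsSand T (x i)) (w : List (Fin m)) (hw : sandN m ≤ w.length) :
    (w.map x).prod = 0 :=
  prod_eq_zero_fin (S := {c | IsSand T c}) (fun _ ha _ hb => IsSand.lie hT ha hb)
    (fun _ hc => hc.2.1) (fun _ hc d hd => hc.2.2 d hd.1) x hx w hw

/-- the same for a list with entries in a finite set of sandwiches -/
theorem sand_prod_eq_zero_finset {R : Type*} [Ring R] {T : Set R}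
    (hT : ∀ a ∈ T, ∀ b ∈ T, a * b - b * a ∈ T) (F : Finset R) (hF : ∀ c ∈ F, IsSand T c)
    (l : List R) (hl : ∀ a ∈ l, a ∈ F) (hlen : sandN F.card ≤ l.length) : l.prod = 0 :=
  prod_eq_zero_finset (S := {c | IsSand T c}) (fun _ ha _ hb => IsSand.lie hT ha hb)
    (fun _ hc => hc.2.1) (fun _ hc d hd => hc.2.2 d hd.1) F hF l hl hlen

/-- a sandwich of a Lie algebra -/
def IsLieSand {L : Type*} [LieRing L] (a : L) : Prop :=
  (∀ z : L, ⁅a, ⁅a, z⁆⁆ = 0) ∧ ∀ y z : L, ⁅a, ⁅y, ⁅a, z⁆⁆⁆ = 0

theorem isLieSand_iff {K L : Type*} [CommRing K] [LieRing L] [LieAlgebra K L] (a : L) :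
    IsLieSand a ↔ IsSand (Set.range (LieAlgebra.ad K L)) (LieAlgebra.ad K L a) := by
  constructor
  · rintro ⟨h1, h2⟩
    refine ⟨⟨a, rfl⟩, ?_, ?_⟩
    · ext z; simpa using h1 z
    · rintro _ ⟨y, rfl⟩
      ext z; simpa using h2 y z
  · rintro ⟨-, h1, h2⟩
    refine ⟨fun z => ?_, fun y z => ?_⟩
    · simpa using LinearMap.congr_fun h1 z
    · simpa using LinearMap.congr_fun (h2 _ ⟨y, rfl⟩) z

theorem ad_lie' {K L : Type*} [CommRing K] [LieRing L] [LieAlgebra K L] (a b : L) :
    LieAlgebra.ad K L ⁅a, b⁆ = LieAlgebra.ad K L a * LieAlgebra.ad K L b -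
      LieAlgebra.ad K L b * LieAlgebra.ad K L a := by
  ext z; simp

theorem range_ad_closed {K L : Type*} [CommRing K] [LieRing L] [LieAlgebra K L] :
    ∀ a ∈ Set.range (LieAlgebra.ad K L), ∀ b ∈ Set.range (LieAlgebra.ad K L),
      a * b - b * a ∈ Set.range (LieAlgebra.ad K L) := by
  rintro _ ⟨a, rfl⟩ _ ⟨b, rfl⟩
  exact ⟨⁅a, b⁆, ad_lie' a b⟩

theorem IsLieSand.lie {L : Type*} [LieRing L] {a b : L} (ha : IsLieSand a) (hb : IsLieSand b) :
    IsLieSand ⁅a, b⁆ := by
  rw [isLieSand_iff (K := ℤ)] at *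
  rw [ad_lie']
  exact IsSand.lie range_ad_closed ha hb

/-- **Sandwich theorem** for Lie algebras: a product of at least `sandN m` operators `ad (x i)`,
the `x i` being `m` sandwiches, is zero on the whole algebra. -/
theorem lie_sand_prod_eq_zero {K L : Type*} [CommRing K] [LieRing L] [LieAlgebra K L] {m : ℕ}
    (x : Fin m → L) (hx : ∀ i, IsLieSand (x i)) (w : List (Fin m)) (hw : sandN m ≤ w.length) :
    (w.map (fun i => LieAlgebra.ad K L (x i))).prod = 0 :=
  sand_prod_eq_zero range_ad_closed _ (fun i => (isLieSand_iff (x i)).1 (hx i)) w hw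

end Cfsg.Agent.Zel.Sand
end

-- part: Zel/Grp/Nil
section
/-!
# Long commutators vanish and commutators are nilpotent: the ring is nilpotent
-/

set_option autoImplicit false

namespace Cfsg.Agent.Zel.Grp

open Cfsg.Agent.Zel Cfsg.Agent.Zel.Sand

section Words

variable {α : Type*} [LinearOrder α]

/-- a property of factors that is unavoidable on recurrent maximal words is unavoidable -/
theorem exists_bound_of_rec [Finite α] (P : List α → Prop)
    (hext : ∀ w p s, P w → P (p ++ w ++ s))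
    (h : ∀ ω : ℕ → α, (∀ i, ¬ ILt ω (sh i ω)) → (∀ n, ∃ j, 1 ≤ j ∧ Ag n (sh j ω) ω) →
      ∃ i n, P (seg ω i n)) :
    ∃ N : ℕ, ∀ w : List α, N ≤ w.length → P w := by
  have hinf : ∀ y : ℕ → α, ∃ i n, P (seg y i n) := by
    intro y
    by_contra hc
    let X : Set (ℕ → α) := {y | ∀ i n, ¬ P (seg y i n)}
    have hne : X.Nonempty := ⟨y, fun i n h => hc ⟨i, n, h⟩⟩
    have hsh : ∀ y ∈ X, ∀ i, sh i y ∈ X := by
      intro y hy i j n h
      have : seg (sh i y) j n = seg y (i + j) n := seg_congr (fun l _ => by simp [sh, add_assoc])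
      exact hy _ _ (this ▸ h)
    have hcl : ∀ y, (∀ n, ∃ x ∈ X, Ag n x y) → y ∈ X := by
      intro y hy i n h
      obtain ⟨x, hx, hag⟩ := hy (i + n)
      have : seg y i n = seg x i n := seg_congr (fun l hl => (hag (i + l) (by omega)).symm)
      exact hx _ _ (this ▸ h)
    obtain ⟨ω, hω, hM, hR⟩ := exists_rec_max hne hsh hcl
    obtain ⟨i, n, hP⟩ := h ω hM hR
    exact hω i n hP
  by_contra hc
  have h : ∀ N : ℕ, ∃ w : List α, N ≤ w.length ∧ ¬ P w := by
    intro N
    by_contra h
    exact hc ⟨N, fun w hw => by_contra (fun hb => h ⟨w, hw, hb⟩)⟩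
  choose w hw1 hw2 using h
  have a : α := (w 1).get ⟨0, hw1 1⟩
  obtain ⟨y, hy⟩ := exists_limit (fun k l => (w k).getD l a)
  obtain ⟨i, n, hb⟩ := hinf y
  obtain ⟨k, hk, hag⟩ := hy (i + n) (i + n)
  have h1 : seg y i n = seg (fun l => (w k).getD l a) i n :=
    seg_congr (fun l hl => (hag (i + l) (by omega)).symm)
  obtain ⟨r, hr⟩ : ∃ r, (w k).length = i + n + r :=
    ⟨(w k).length - (i + n), by have := hw1 k; omega⟩
  apply hw2 k
  rw [← seg_getD (w k) a, hr, seg_add, seg_add, zero_add, ← h1]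
  exact hext _ _ _ hb

/-- weak records with long agreement -/
theorem exists_record {ω : ℕ → α} (hM : ∀ i, ¬ ILt ω (sh i ω))
    (hR : ∀ n, ∃ j, 1 ≤ j ∧ Ag n (sh j ω) ω) (n : ℕ) :
    ∃ j, 1 ≤ j ∧ Ag n (sh j ω) ω ∧ ∀ i, 1 ≤ i → i < j → ¬ ILt (sh j ω) (sh i ω) := by
  obtain ⟨j0, hj0, hag⟩ := hR n
  have hmax : ∀ J, 1 ≤ J → ∃ j, 1 ≤ j ∧ j ≤ J ∧
      ∀ i, 1 ≤ i → i ≤ J → ¬ ILt (sh j ω) (sh i ω) := by
    intro J hJ
    induction J, hJ using Nat.le_induction with
    | base =>
      refine ⟨1, le_rfl, le_rfl, fun i h1 h2 => ?_⟩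
      rw [le_antisymm h2 h1]; exact ILt.irrefl _
    | succ J hJ ih =>
      obtain ⟨j, h1, h2, h3⟩ := ih
      by_cases hlt : ILt (sh j ω) (sh (J + 1) ω)
      · refine ⟨J + 1, by omega, le_rfl, fun i h4 h5 => ?_⟩
        rcases Nat.lt_succ_iff_lt_or_eq.1 (Nat.lt_succ_of_le h5) with h6 | rfl
        · exact fun h7 => h3 i h4 (by omega) (hlt.trans h7)
        · exact ILt.irrefl _
      · refine ⟨j, h1, by omega, fun i h4 h5 => ?_⟩
        rcases Nat.lt_succ_iff_lt_or_eq.1 (Nat.lt_succ_of_le h5) with h6 | rfl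
        · exact h3 i h4 (by omega)
        · exact hlt
  obtain ⟨j, h1, h2, h3⟩ := hmax j0 hj0
  exact ⟨j, h1, ag_of_between (h3 j0 hj0 le_rfl) (hM j) hag, fun i h4 h5 => h3 i h4 (by omega)⟩

omit [LinearOrder α] in
theorem sh_eq_of_ag {ω : ℕ → α} {k β : ℕ} (h1 : Ag β (sh k ω) ω)
    (h2 : sh (k + β) ω = sh β ω) : sh k ω = ω := by
  funext l
  by_cases hl : l < β
  · exact h1 l hl
  · obtain ⟨r, rfl⟩ : ∃ r, l = β + r := ⟨l - β, by omega⟩
    have := congrFun h2 r
    simpa [sh, add_assoc] using this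

/-- if `ω[k, k+β) = ω[0, β)` then `T^β ω` is not below `T^(k+β) ω` -/
theorem not_ILt_of_border {ω : ℕ → α} (hM : ∀ i, ¬ ILt ω (sh i ω)) {k β : ℕ}
    (h1 : Ag β (sh k ω) ω) : ¬ ILt (sh β ω) (sh (k + β) ω) := by
  rintro ⟨d, h2, h3⟩
  refine hM k ⟨β + d, fun l hl => ?_, by simpa [sh, add_assoc] using h3⟩
  by_cases hl' : l < β
  · exact (h1 l hl').symm
  · obtain ⟨r, rfl⟩ : ∃ r, l = β + r := ⟨l - β, by omega⟩
    have := h2 r (by omega)
    simpa [sh, add_assoc] using this

/-- the word has a long regular factor or an `n`-th power of a regular word as a factor -/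
def Bad2 (c n : ℕ) (w : List α) : Prop :=
  ∃ p u s : List α, Reg u ∧ ((c ≤ u.length ∧ w = p ++ u ++ s) ∨
    w = p ++ (List.replicate n u).flatten ++ s)

theorem exists_bad2_bound (α : Type*) [LinearOrder α] [Finite α] (c n : ℕ) :
    ∃ N : ℕ, ∀ w : List α, N ≤ w.length → Bad2 c n w := by
  classical
  refine exists_bound_of_rec (Bad2 c n) ?_ ?_
  · rintro w p s ⟨p', u, s', hu, h | h⟩
    · exact ⟨p ++ p', u, s' ++ s, hu, Or.inl ⟨h.1, by rw [h.2]; simp⟩⟩
    · exact ⟨p ++ p', u, s' ++ s, hu, Or.inr (by rw [h]; simp)⟩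
  · intro ω hM hR
    by_cases hper : ∃ j, 1 ≤ j ∧ sh j ω = ω
    · obtain ⟨hj1, hj⟩ := Nat.find_spec hper
      have hmin := fun m => Nat.find_min hper (m := m)
      generalize Nat.find hper = j at hj1 hj hmin
      have hreg : Reg (seg ω 0 j) := by
        refine reg_seg hM hj1 (fun k hk1 hk2 hag => hmin k hk2 ⟨hk1, ?_⟩)
        have h1 := not_ILt_of_border hM hag
        rw [show k + (j - k) = j by omega, hj] at h1
        have h2 : sh (j - k) ω = ω := eq_of_not_ILt h1 (hM _)
        exact absurd ⟨by omega, h2⟩ (hmin (j - k) (by omega))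
      have hpow : ∀ m, seg ω 0 (m * j) = (List.replicate m (seg ω 0 j)).flatten := by
        intro m
        induction m with
        | zero => simp [seg_zero]
        | succ m ih =>
          rw [show (m + 1) * j = j + m * j by ring, seg_add, List.replicate_succ,
            List.flatten_cons, ← ih]
          congr 1
          exact seg_congr (fun l _ => by simpa [sh] using congrFun hj l)
      exact ⟨0, n * j, [], seg ω 0 j, [], hreg, Or.inr (by rw [hpow]; simp)⟩
    · have hne : ∀ j, 1 ≤ j → ∃ n, ¬ Ag n (sh j ω) ω := by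
        intro j hj
        by_contra hc
        refine hper ⟨j, hj, funext (fun l => ?_)⟩
        by_contra hl
        exact hc ⟨l + 1, fun h => hl (h l (Nat.lt_succ_self _))⟩
      choose! ν hν using hne
      obtain ⟨j, hj1, hag, hrec⟩ := exists_record hM hR ((Finset.range c).sup ν)
      have hjc : c ≤ j := by
        by_contra hlt
        exact hν j hj1 (hag.mono (Finset.le_sup (f := ν) (Finset.mem_range.2 (by omega))))
      have hreg : Reg (seg ω 0 j) := by
        refine reg_seg hM hj1 (fun k hk1 hk2 hb => hper ⟨k, hk1, sh_eq_of_ag hb ?_⟩)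
        have h1 := not_ILt_of_border hM hb
        rw [show k + (j - k) = j by omega] at h1 ⊢
        exact eq_of_not_ILt (hrec (j - k) (by omega) (by omega)) h1
      exact ⟨0, j, [], seg ω 0 j, [], hreg, Or.inl ⟨by rw [seg_length]; exact hjc, by simp⟩⟩

end Words

section Alg

variable {α : Type*} [LinearOrder α] {R : Type*} [Ring R] {x : α → R}

/-- a regular word is the leading word of a bracketing of the same length -/
theorem exists_lead_tree {u : List α} (hu : Reg u) :
    ∃ t : FreeMagma α, t.length = u.length ∧ Lead x (ev x t) u := by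
  induction hn : u.length using Nat.strong_induction_on generalizing u with
  | _ n ih =>
    by_cases h2 : 2 ≤ u.length
    · obtain ⟨v, w, hv, hw, huv, hlt⟩ := hu.exists_fact h2
      have h3 := List.length_pos_iff.2 hv.1
      have h4 := List.length_pos_iff.2 hw.1
      have h5 : v.length + w.length = n := by rw [← hn, huv, List.length_append]
      obtain ⟨c, hc, hcv⟩ := ih v.length (by omega) hv rfl
      obtain ⟨d, hd, hdw⟩ := ih w.length (by omega) hw rfl
      refine ⟨c * d, ?_, ?_⟩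
      · rw [← h5, ← hc, ← hd]; rfl
      · rw [huv, ev_mul, Ring.lie_def]
        exact (hcv.mul hdw).sub (hdw.mul hcv) (by simp [add_comm]) hlt
    · have h3 := List.length_pos_iff.2 hu.1
      obtain ⟨a, rfl⟩ := List.length_eq_one_iff.1 (show u.length = 1 by omega)
      refine ⟨FreeMagma.of a, by rw [← hn]; rfl, ?_⟩
      have := Lead.val (x := x) [a]
      simpa [ev_of] using this

theorem lead_pow {c : R} {u : List α} (h : Lead x c u) (n : ℕ) :
    Lead x (c ^ n) (List.replicate n u).flatten := by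
  induction n with
  | zero => simpa using Lead.val (x := x) []
  | succ n ih => rw [pow_succ', List.replicate_succ, List.flatten_cons]; exact h.mul ih

theorem val_eq_zero_of_low [Finite α] {n : ℕ}
    (hn : ∀ w : List α, w.length = n → (w.map x).prod ∈ Low x w) (w : List α)
    (hw : w.length = n) : (w.map x).prod = 0 := by
  have hwf : {l : List α | l.length = n}.WellFoundedOn SLt :=
    (List.finite_length_eq α n).wellFoundedOn
  refine hwf.induction (P := fun w => (w.map x).prod = 0) hw (fun w hw ih => ?_)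
  have hle : Low x w ≤ ⊥ := by
    refine (AddSubgroup.closure_le _).2 ?_
    rintro _ ⟨v, h4, h5, rfl⟩
    exact ih v (h4.trans hw) h5
  exact hle (hn w hw)

theorem low_of_lead_zero {u : List α} (h0 : Lead x 0 u) (p s : List α) :
    ((p ++ u ++ s).map x).prod ∈ Low x (p ++ u ++ s) := by
  have h1 := ((Lead.val (x := x) p).mul h0).mul (Lead.val s)
  unfold Lead at h1
  rw [mul_zero, zero_mul, zero_sub] at h1
  exact neg_mem_iff.1 h1

end Alg

/-- long commutators vanish and all commutators are nilpotent: long products vanish -/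
theorem exists_nil_bound (α : Type*) [LinearOrder α] [Finite α] (c n : ℕ) :
    ∃ N : ℕ, ∀ (R : Type*) [Ring R] (x : α → R),
      (∀ t : FreeMagma α, c ≤ t.length → ev x t = 0) → (∀ t : FreeMagma α, ev x t ^ n = 0) →
      ∀ w : List α, N ≤ w.length → (w.map x).prod = 0 := by
  obtain ⟨N, hN⟩ := exists_bad2_bound α c n
  refine ⟨N, fun R _ x h1 h2 w hw => val_eq_zero_of_low (fun v hv => ?_) w rfl⟩
  obtain ⟨p, u, s, hu, h⟩ := hN v (hv ▸ hw)
  obtain ⟨t, ht, hl⟩ := exists_lead_tree (x := x) hu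
  rcases h with ⟨hc, rfl⟩ | rfl
  · rw [h1 t (ht ▸ hc)] at hl
    exact low_of_lead_zero hl p s
  · have := lead_pow hl n
    rw [h2 t] at this
    exact low_of_lead_zero this p s

end Cfsg.Agent.Zel.Grp
end

-- part: Zel/Grp/Unif
section
/-!
# The associative form of the Lie theorem, with a uniform bound
-/

set_option autoImplicit false

universe u

namespace Cfsg.Agent.Zel.Grp

open Cfsg.Agent.Zel

attribute [local instance 100] LieRing.ofAssociativeRing

/-- the hypotheses of the associative form: a graded family `G` of subsets closed under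
commutators, of nilpotent elements of index `n`, with the linearised identity in degree zero -/
structure GrFam (q n : ℕ) {R : Type*} [Ring R] (G : ZMod q → R → Prop) : Prop where
  lie : ∀ i j a b, G i a → G j b → G (i + j) (a * b - b * a)
  nil : ∀ i a, G i a → a ^ n = 0
  sym : ∀ y : Fin n → R, (∀ i, G 0 (y i)) → symProd y n Finset.univ = 0

theorem GrFam.ev_mem {q n : ℕ} {R α : Type*} [Ring R] {G : ZMod q → R → Prop} (h : GrFam q n G)
    {x : α → R} {deg : α → ZMod q} (hx : ∀ a, G (deg a) (x a)) (t : FreeMagma α) :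
    G (dg deg t) (ev x t) := by
  induction t with
  | ih1 a => exact hx a
  | ih2 s t hs ht => exact h.lie _ _ _ _ hs ht

theorem assoc_qual {F : Type} [Field F] {q n : ℕ} (h : LieThm.{u} F q (2 * n)) {d : ℕ}
    (R : Type u) [Ring R] [Algebra F R] (G : ZMod q → R → Prop) (hG : GrFam q n G)
    (x : Fin d → R) (deg : Fin d → ZMod q) (hx : ∀ a, G (deg a) (x a)) :
    ∃ N, ∀ w : List (Fin d), N ≤ w.length → (w.map x).prod = 0 := by
  obtain ⟨c, hc⟩ := h d R x deg
    (fun t => ad_pow_eq_zero (hG.nil _ _ (hG.ev_mem hx t)) le_rfl)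
    (fun y hy => symProd_ad_eq_zero (U := Finset.univ) (n := n)
      (fun T _ hT => symProd_eq_zero_of_fin hG.sym _ T hT
        (fun j _ => hy j ▸ hG.ev_mem hx (y j))) le_rfl (Finset.subset_univ _) (by simp))
  obtain ⟨N, hN⟩ := exists_nil_bound (Fin d) c n
  exact ⟨N, hN R x hc (fun t => hG.nil _ _ (hG.ev_mem hx t))⟩

/-- the associative form of the graded theorem -/
def AssocThm (F : Type) [Field F] (q n : ℕ) : Prop :=
  ∀ (d : ℕ) (R : Type u) [Ring R] [Algebra F R] (G : ZMod q → R → Prop), GrFam q n G →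
    ∀ (x : Fin d → R) (deg : Fin d → ZMod q), (∀ a, G (deg a) (x a)) →
    ∃ N, ∀ w : List (Fin d), N ≤ w.length → (w.map x).prod = 0

/-- what the group-theoretic part uses -/
def AssocThmAll : Prop :=
  ∀ (p q n : ℕ) [Fact p.Prime], q.Prime → q ≠ p → AssocThm.{u} (AlgebraicClosure (ZMod p)) q n

theorem assocThmAll_of_lieThmAll (h : LieThmAll.{u}) : AssocThmAll.{u} :=
  fun p q n _ hq hqp _ R _ _ G hG x deg hx => assoc_qual (h p q (2 * n) hq hqp) R G hG x deg hx

/-- the uniform associative form -/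
theorem assoc_bound {F : Type} [Field F] {q n : ℕ} (h : AssocThm.{u} F q n) (α : Type)
    [Finite α] (deg : α → ZMod q) :
    ∃ N, ∀ (R : Type u) [Ring R] [Algebra F R] (G : ZMod q → R → Prop), GrFam q n G →
      ∀ x : α → R, (∀ a, G (deg a) (x a)) →
      ∀ w : List α, N ≤ w.length → (w.map x).prod = 0 := by
  by_contra hc
  have h1 : ∀ N : ℕ, ∃ (R : Type u) (_ : Ring R) (_ : Algebra F R) (G : ZMod q → R → Prop)
      (x : α → R) (w : List α), GrFam q n G ∧ (∀ a, G (deg a) (x a)) ∧ N ≤ w.length ∧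
        (w.map x).prod ≠ 0 := by
    intro N
    by_contra h2
    refine hc ⟨N, fun R _ _ G hG x hx w hw => ?_⟩
    by_contra h3
    exact h2 ⟨R, _, inferInstance, G, x, w, hG, hx, hw, h3⟩
  choose R iR iA G x w hG hx hw hne using h1
  obtain ⟨d, ⟨e⟩⟩ := Finite.exists_equiv_fin α
  let G' : ZMod q → (∀ k, R k) → Prop := fun i a => ∀ k, G k i (a k)
  have hG' : GrFam q n G' :=
    { lie := fun i j a b ha hb k => (hG k).lie i j _ _ (ha k) (hb k)
      nil := fun i a ha => funext (fun k => (hG k).nil i _ (ha k))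
      sym := fun y hy => funext (fun k => by
        have := map_symProd (Pi.evalRingHom R k) y n Finset.univ
        rw [Pi.evalRingHom_apply] at this
        rw [this]
        exact (hG k).sym _ (fun i => hy i k)) }
  obtain ⟨N, hN⟩ := h d (∀ k, R k) G' hG' (fun i k => x k (e.symm i))
    (fun i => deg (e.symm i)) (fun i k => hx k _)
  have h2 := hN ((w N).map e) (by simpa using hw N)
  apply hne N
  have h3 := congrArg (Pi.evalRingHom R N) h2
  rw [map_list_prod, map_zero] at h3
  simpa [List.map_map, Function.comp_def] using h3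

end Cfsg.Agent.Zel.Grp
end

-- part: Zel/Grp/Coprime
section
/-!
# Fixed points of an automorphism of prime order in an invariant coset
-/

set_option autoImplicit false

namespace Cfsg.Agent.Zel.Grp

theorem exists_fixed_in_coset {H : Type*} [Group H] [Finite H] {q : ℕ} [Fact q.Prime]
    (γ : MulAut H) (hγ : γ ^ q = 1) (N : Subgroup H) (hN : ∀ x ∈ N, γ x ∈ N)
    (hq : ¬ q ∣ Nat.card N) (g : H) (hg : g⁻¹ * γ g ∈ N) : ∃ n ∈ N, γ (g * n) = g * n := by
  classical
  have hX : ∀ x : H, g⁻¹ * x ∈ N → g⁻¹ * (γ : Equiv.Perm H) x ∈ N := by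
    intro x hx
    have : g⁻¹ * γ x = g⁻¹ * γ g * γ (g⁻¹ * x) := by simp [mul_assoc]
    change g⁻¹ * γ x ∈ N
    rw [this]
    exact mul_mem hg (hN _ hx)
  let σ : Equiv.Perm {x : H // g⁻¹ * x ∈ N} :=
    Equiv.Perm.subtypePermOfFintype (γ : Equiv.Perm H) hX
  have hσ : ∀ (k : ℕ) (x : {x : H // g⁻¹ * x ∈ N}), ((σ ^ k) x : H) = (γ ^ k) (x : H) := by
    intro k
    induction k with
    | zero => intro x; rfl
    | succ k ih => intro x; rw [pow_succ, pow_succ, Equiv.Perm.mul_apply, ih]; rfl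
  have hσq : σ ^ q ^ 1 = 1 := by
    ext x
    rw [pow_one, hσ, hγ]; rfl
  let e : {x : H // g⁻¹ * x ∈ N} ≃ N :=
    { toFun := fun x => ⟨g⁻¹ * x, x.2⟩
      invFun := fun n => ⟨g * n, by simp⟩
      left_inv := fun x => by simp
      right_inv := fun n => by simp }
  have := Fintype.ofFinite {x : H // g⁻¹ * x ∈ N}
  obtain ⟨a, ha⟩ := Equiv.Perm.exists_fixed_point_of_prime (p := q) (n := 1)
    (by rw [← Nat.card_eq_fintype_card, Nat.card_congr e]; exact hq) hσq
  refine ⟨g⁻¹ * a, a.2, ?_⟩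
  rw [mul_inv_cancel_left]
  exact congrArg Subtype.val ha

theorem not_dvd_card_of_pGroup {H : Type*} [Group H] [Finite H] {p q : ℕ} [Fact p.Prime]
    [Fact q.Prime] (hH : IsPGroup p H) (hpq : q ≠ p) (N : Subgroup H) : ¬ q ∣ Nat.card N := by
  obtain ⟨s, hs⟩ := IsPGroup.iff_card.1 (hH.to_subgroup N)
  rw [hs]
  intro h
  exact hpq ((Nat.prime_dvd_prime_iff_eq Fact.out Fact.out).1
    ((Fact.out : q.Prime).dvd_of_dvd_pow h))

end Cfsg.Agent.Zel.Grp
end

-- part: Zel/Grp/Core
section
/-!
# A finite `p`-group generated by one orbit of `C_q × C_q`: the order of the generator is bounded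
-/

set_option autoImplicit false

universe u

namespace Cfsg.Agent.Zel.Grp

open Cfsg.Agent.Zel

section Abs

variable {F R H : Type*} [Field F] [Ring R] [Algebra F R] [Group H] {ρ : H →* R}
  (hs : Submodule.span F (Set.range ρ) = ⊤) {q : ℕ} (χ : AddChar (ZMod q) F)
  (φ : MulAut H → R →ₐ[F] R) (hφ : ∀ γ h, φ γ (ρ h) = ρ (γ h))

/-- the action of an automorphism on the graded algebra -/
noncomputable def autGr (γ : MulAut H) : Gr (isFilt_augF hs) →ₐ[F] Gr (isFilt_augF hs) :=
  grMap _ (φ γ) (map_mem_augF (φ γ) γ (hφ γ))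

include hφ in
theorem aut_mem_dimSub (γ : MulAut H) {i : ℕ} {g : H} (hg : g ∈ dimSub hs i) :
    γ g ∈ dimSub hs i := by
  have := map_mem_augF (φ γ) γ (hφ γ) i _ hg
  rwa [map_sub, map_one, hφ] at this

theorem autGr_xi (γ : MulAut H) {i : ℕ} {g : H} (hg : g ∈ dimSub hs i) :
    autGr hs φ hφ γ (xi hs i g) = xi hs i (γ g) := by
  unfold autGr xi
  rw [grMap_sb _ _ _ hg, map_sub, map_one, hφ]

/-- combinations of symbols with coefficients in the ring generated by the values of `χ` -/
noncomputable def symGr (i : ℕ) (Q : Subgroup H) : AddSubgroup (Gr (isFilt_augF hs)) :=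
  AddSubgroup.closure {b | ∃ (l : ZMod q) (g : H), g ∈ dimSub hs i ∧ g ∈ Q ∧ b = χ l • xi hs i g}

theorem mem_symGr {i : ℕ} {Q : Subgroup H} (l : ZMod q) {g : H} (hg : g ∈ dimSub hs i)
    (hQ : g ∈ Q) : χ l • xi hs i g ∈ symGr hs χ i Q :=
  AddSubgroup.subset_closure ⟨l, g, hg, hQ, rfl⟩

theorem symGr_normal [NeZero q] {i : ℕ} (hi : 1 ≤ i) {Q : Subgroup H} {b : Gr (isFilt_augF hs)}
    (hb : b ∈ symGr hs χ i Q) : ∃ g : ZMod q → H, (∀ l, g l ∈ dimSub hs i ∧ g l ∈ Q) ∧
      b = ∑ l, χ l • xi hs i (g l) := by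
  classical
  induction hb using AddSubgroup.closure_induction with
  | mem b hb =>
    obtain ⟨l, g, h1, h2, rfl⟩ := hb
    refine ⟨fun k => if k = l then g else 1, fun k => ?_, ?_⟩
    · dsimp only
      split_ifs
      · exact ⟨h1, h2⟩
      · exact ⟨one_mem _, one_mem _⟩
    · rw [Finset.sum_eq_single l]
      · simp
      · intro k _ hk; simp [hk, xi_one]
      · simp
  | zero => exact ⟨fun _ => 1, fun _ => ⟨one_mem _, one_mem _⟩, by simp [xi_one]⟩
  | add a b _ _ ha hb =>
    obtain ⟨g, h1, rfl⟩ := ha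
    obtain ⟨g', h2, rfl⟩ := hb
    refine ⟨fun l => g l * g' l, fun l => ⟨mul_mem (h1 l).1 (h2 l).1, mul_mem (h1 l).2 (h2 l).2⟩, ?_⟩
    rw [← Finset.sum_add_distrib]
    exact Finset.sum_congr rfl (fun l _ => by rw [xi_mul hs hi (h1 l).1 (h2 l).1, smul_add])
  | neg a _ ha =>
    obtain ⟨g, h1, rfl⟩ := ha
    refine ⟨fun l => (g l)⁻¹, fun l => ⟨inv_mem (h1 l).1, inv_mem (h1 l).2⟩, ?_⟩
    rw [← Finset.sum_neg_distrib]
    exact Finset.sum_congr rfl (fun l _ => by rw [xi_inv hs hi (h1 l).1, smul_neg])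

theorem symGr_lie {i j : ℕ} {a b : Gr (isFilt_augF hs)} (ha : a ∈ symGr hs χ i ⊤)
    (hb : b ∈ symGr hs χ j ⊤) : a * b - b * a ∈ symGr hs χ (i + j) ⊤ := by
  induction ha using AddSubgroup.closure_induction with
  | mem a ha =>
    obtain ⟨l, g, h1, -, rfl⟩ := ha
    induction hb using AddSubgroup.closure_induction with
    | mem b hb =>
      obtain ⟨l', g', h2, -, rfl⟩ := hb
      rw [smul_mul_smul_comm, smul_mul_smul_comm, mul_comm (χ l'), ← smul_sub, xi_comm hs h1 h2,
        ← AddChar.map_add_eq_mul]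
      exact mem_symGr hs χ _ (comm_mem_dimSub hs h1 h2) trivial
    | zero => simp
    | add b b' _ _ hb hb' =>
      have := add_mem hb hb'
      rwa [sub_add_sub_comm, ← mul_add, ← add_mul] at this
    | neg b _ hb =>
      have := neg_mem hb
      rwa [neg_sub', ← mul_neg, ← neg_mul] at this
  | zero => simp
  | add a a' _ _ ha ha' =>
    have := add_mem ha ha'
    rwa [sub_add_sub_comm, ← mul_add, ← add_mul] at this
  | neg a _ ha =>
    have := neg_mem ha
    rwa [neg_sub', ← neg_mul, ← mul_neg] at this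

/-- the fixed points of an automorphism -/
def fixSub (γ : MulAut H) : Subgroup H where
  carrier := {g | γ g = g}
  mul_mem' := fun {a b} ha hb => by
    change γ (a * b) = a * b
    rw [map_mul, ha, hb]
  one_mem' := map_one γ
  inv_mem' := fun {a} ha => by
    change γ a⁻¹ = a⁻¹
    rw [map_inv, ha]

variable {p : ℕ} [Fact p.Prime] [Fact q.Prime] [Finite H] (hH : IsPGroup p H) (hpq : q ≠ p)

include hφ hH hpq in
theorem fix_lift {γ : MulAut H} (hγ : γ ^ q = 1) {i : ℕ} (hi : 1 ≤ i) {g : H}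
    (hg : g ∈ dimSub hs i) (h : xi hs i (γ g) = xi hs i g) :
    ∃ g' ∈ dimSub hs i, γ g' = g' ∧ xi hs i g' = xi hs i g := by
  have hγg := aut_mem_dimSub hs φ hφ γ hg
  obtain ⟨n, hn1, hn2⟩ := exists_fixed_in_coset γ hγ (dimSub hs (i + 1))
    (fun x hx => aut_mem_dimSub hs φ hφ γ hx) (not_dvd_card_of_pGroup hH hpq _) g (by
      rw [← xi_eq_zero_iff hs (mul_mem (inv_mem hg) hγg), xi_mul hs hi (inv_mem hg) hγg,
        xi_inv hs hi hg, h, neg_add_cancel])
  have hn3 := dimSub_anti hs i hn1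
  refine ⟨g * n, mul_mem hg hn3, hn2, ?_⟩
  rw [xi_mul hs hi hg hn3, (xi_eq_zero_iff hs hn3).2 hn1, add_zero]

include hH hpq in
theorem symGr_fix [CharP F p] {γ : MulAut H} (hγ : γ ^ q = 1) {i : ℕ} (hi : 1 ≤ i)
    {b : Gr (isFilt_augF hs)} (hb : b ∈ symGr hs χ i ⊤) (hfix : autGr hs φ hφ γ b = b) :
    b ∈ symGr hs χ i (fixSub γ) := by
  let T : Module.End F (Gr (isFilt_augF hs)) := (autGr hs φ hφ γ).toLinearMap
  have hT : ∀ (k : ℕ) (g : H), g ∈ dimSub hs i → (T ^ k) (xi hs i g) = xi hs i ((γ ^ k) g) := by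
    intro k
    induction k with
    | zero => intro g _; rfl
    | succ k ih =>
      intro g hg
      rw [pow_succ, pow_succ, Module.End.mul_apply]
      change (T ^ k) (autGr hs φ hφ γ _) = _
      rw [autGr_xi hs φ hφ γ hg, ih _ (aut_mem_dimSub hs φ hφ γ hg)]
      rfl
  have hsum : ∀ (m : ℕ) (g : H), g ∈ dimSub hs i →
      ∃ g' ∈ dimSub hs i, ∑ k ∈ Finset.range m, xi hs i ((γ ^ k) g) = xi hs i g' := by
    intro m g hg
    induction m with
    | zero => exact ⟨1, one_mem _, by simp [xi_one]⟩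
    | succ m ih =>
      obtain ⟨g', h1, h2⟩ := ih
      have h3 := aut_mem_dimSub hs φ hφ (γ ^ m) hg
      exact ⟨g' * (γ ^ m) g, mul_mem h1 h3, by
        rw [Finset.sum_range_succ, h2, xi_mul hs hi h1 h3]⟩
  have hπ : ∀ c ∈ symGr hs χ i ⊤, (∑ k ∈ Finset.range q, T ^ k) c ∈ symGr hs χ i (fixSub γ) := by
    intro c hc
    induction hc using AddSubgroup.closure_induction with
    | mem c hc =>
      obtain ⟨l, g, h1, -, rfl⟩ := hc
      obtain ⟨g', h2, h3⟩ := hsum q g h1
      have h4 : (∑ k ∈ Finset.range q, T ^ k) (xi hs i g) = xi hs i g' := by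
        rw [LinearMap.sum_apply, ← h3]
        exact Finset.sum_congr rfl (fun k _ => hT k g h1)
      have h5 : xi hs i (γ g') = xi hs i g' := by
        rw [← autGr_xi hs φ hφ γ h2, ← h4]
        change (T * ∑ k ∈ Finset.range q, T ^ k) (xi hs i g) = _
        have h6 : T * ∑ k ∈ Finset.range q, T ^ k = ∑ k ∈ Finset.range q, T ^ k + (T ^ q - 1) := by
          rw [← mul_geom_sum, sub_mul, one_mul]; abel
        rw [h6, LinearMap.add_apply, LinearMap.sub_apply, hT q g h1, hγ]
        simp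
      obtain ⟨g'', h7, h8, h9⟩ := fix_lift hs φ hφ hH hpq hγ hi h2 h5
      rw [map_smul, h4, ← h9]
      exact mem_symGr hs χ l h7 h8
    | zero => rw [map_zero]; exact zero_mem _
    | add a b _ _ ha hb => rw [map_add]; exact add_mem ha hb
    | neg a _ ha => rw [map_neg]; exact neg_mem ha
  have h1 : (∑ k ∈ Finset.range q, T ^ k) b = q • b := by
    have h0 : ∀ k : ℕ, (T ^ k) b = b := by
      intro k
      induction k with
      | zero => rfl
      | succ k ih =>
        rw [pow_succ, Module.End.mul_apply]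
        change (T ^ k) (autGr hs φ hφ γ b) = b
        rw [hfix, ih]
    rw [LinearMap.sum_apply, Finset.sum_congr rfl (fun k _ => h0 k)]
    simp
  have hcop : Nat.Coprime q p := (Nat.coprime_primes Fact.out Fact.out).2 hpq
  obtain ⟨r, -, hr⟩ := Nat.exists_mul_mod_eq_one_of_coprime hcop (Fact.out : p.Prime).one_lt
  have h2 : ((r * q : ℕ) : F) = 1 := by
    rw [mul_comm, CharP.cast_eq_mod F p, hr, Nat.cast_one]
  have h3 : b = r • (q • b) := by
    rw [← mul_smul, ← Nat.cast_smul_eq_nsmul F, h2, one_smul]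
  rw [h3, ← h1]
  exact nsmul_mem (hπ b hb) r

end Abs

end Cfsg.Agent.Zel.Grp
end
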